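import Groth.Agent.Lib.QcohDesc12.Stalk
import Groth.Agent.Lib.FlatH4.PullChart
import Mathlib.Algebra.Category.Ring.Constructions

/-!
# Sections of pullbacks over affine charts of fibre products
-/

universe u

set_option linter.style.haveILetI false
set_option linter.unusedSectionVars false
set_option backward.isDefEq.respectTransparency false
set_option backward.isDefEq.respectTransparency.types false

open AlgebraicGeometry CategoryTheory Limits TensorProduct

namespace Groth.Agent.QcohDesc12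

open ModLimH13

theorem bijective_of_isPushout {A B A' R F T : Type u} [CommRing A] [CommRing B] [CommRing A'] [CommRing R]
    [Algebra A B] [Algebra A A'] [Algebra B R] [Algebra A' R] [Algebra A R] [IsScalarTower A B R]
    [IsScalarTower A A' R] [Algebra.IsPushout A B A' R] [AddCommGroup F] [Module A F] [Module A' F]
    [IsScalarTower A A' F] [AddCommGroup T] [Module R T]
    (Φ : R ⊗[A'] F ≃ₗ[R] T) (L : B ⊗[A] F →+ T)
    (hL : ∀ c y, L (c ⊗ₜ y) = Φ (algebraMap B R c ⊗ₜ y)) : Function.Bijective L := by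
  have e : ⇑L = Φ ∘ (Algebra.IsPushout.cancelBaseChange A B A' R F).symm := by
    funext z
    induction z using TensorProduct.induction_on with
    | zero => simp
    | tmul c y => rw [Function.comp_apply, hL, Algebra.IsPushout.cancelBaseChange_symm_tmul]
    | add a b ha hb => simp only [Function.comp_apply, map_add] at ha hb ⊢; rw [ha, hb]
  rw [e]
  exact Φ.bijective.comp (LinearEquiv.bijective _)

variable {S Xk Y Z : Scheme.{u}} {fk : Xk ⟶ S} {h : Y ⟶ S} {a : Z ⟶ Xk} {g : Z ⟶ Y}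
  {U : S.Opens} {W : Xk.Opens} (eW : W ≤ fk ⁻¹ᵁ U) {W' : Y.Opens} (eW' : W' ≤ h ⁻¹ᵁ U)
  {Z₀ : Z.Opens} (e : Z₀ ≤ a ⁻¹ᵁ W) (e' : Z₀ ≤ g ⁻¹ᵁ W') (hw : a ≫ fk = g ≫ h) (F : Y.Modules)
  [Algebra Γ(S, U) Γ(Xk, W)] (hB : ∀ r : Γ(S, U), algebraMap Γ(S, U) Γ(Xk, W) r = fk.appLE U W eW r)
  [Module Γ(S, U) Γ(F, W')] (hF : ∀ (r : Γ(S, U)) (s : Γ(F, W')), r • s = h.appLE U W' eW' r • s)

/-- `c ⊗ y ↦ a^*c • g^*y`. -/
noncomputable def bcSec : Γ(Xk, W) ⊗[Γ(S, U)] Γ(F, W') →+ Γ((Scheme.Modules.pullback g).obj F, Z₀) :=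
  TensorProduct.liftAddHom
    (AddMonoidHom.mk' (fun c => AddMonoidHom.mk' (fun y => a.appLE W Z₀ e c • res' g F e' y)
        (fun y y' => by rw [res'_add, smul_add]))
      (fun c c' => by ext y; exact (congrArg (· • _) (map_add _ c c')).trans (add_smul _ _ _)))
    (fun r c y => by
      show a.appLE W Z₀ e (r • c) • res' g F e' y = a.appLE W Z₀ e c • res' g F e' (r • y)
      have hr : a.appLE W Z₀ e (fk.appLE U W eW r) = g.appLE W' Z₀ e' (h.appLE U W' eW' r) := by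
        rw [← CommRingCat.comp_apply, ← CommRingCat.comp_apply, Scheme.Hom.appLE_comp_appLE,
          Scheme.Hom.appLE_comp_appLE]
        simp only [hw]
      rw [Algebra.smul_def, hB, map_mul, hr, hF, res'_smul, smul_smul, mul_comm])

lemma bcSec_tmul (c : Γ(Xk, W)) (y : Γ(F, W')) :
    bcSec eW eW' e e' hw F hB hF (c ⊗ₜ y) = a.appLE W Z₀ e c • res' g F e' y :=
  TensorProduct.liftAddHom_tmul _ _ _ _

lemma bcSec_smul (c : Γ(Xk, W)) (z : Γ(Xk, W) ⊗[Γ(S, U)] Γ(F, W')) :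
    bcSec eW eW' e e' hw F hB hF (c • z) = a.appLE W Z₀ e c • bcSec eW eW' e e' hw F hB hF z := by
  induction z using TensorProduct.induction_on with
  | zero => simp
  | tmul c' y => rw [TensorProduct.smul_tmul', smul_eq_mul, bcSec_tmul, bcSec_tmul, map_mul, mul_smul]
  | add x y hx hy => rw [smul_add, map_add, hx, hy, map_add, smul_add]

/-- On affine charts of a fibre product, the sections of a pullback are a base change. -/
theorem bcSec_bijective (H : IsPullback a g fk h) [Coh.IsQCoh F] (hU : IsAffineOpen U)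
    (hW : IsAffineOpen W) (hW' : IsAffineOpen W') (hZ : Z₀ = a ⁻¹ᵁ W ⊓ g ⁻¹ᵁ W') :
    Function.Bijective (bcSec eW eW' e e' hw F hB hF) := by
  letI : Algebra Γ(S, U) Γ(Y, W') := (h.appLE U W' eW').hom.toAlgebra
  letI : Algebra Γ(Xk, W) Γ(Z, Z₀) := (a.appLE W Z₀ e).hom.toAlgebra
  letI : Algebra Γ(Y, W') Γ(Z, Z₀) := (g.appLE W' Z₀ e').hom.toAlgebra
  letI : Algebra Γ(S, U) Γ(Z, Z₀) :=
    ((algebraMap Γ(Y, W') Γ(Z, Z₀)).comp (algebraMap Γ(S, U) Γ(Y, W'))).toAlgebra
  haveI : IsScalarTower Γ(S, U) Γ(Y, W') Γ(Z, Z₀) := IsScalarTower.of_algebraMap_eq fun _ => rfl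
  haveI : IsScalarTower Γ(S, U) Γ(Xk, W) Γ(Z, Z₀) := IsScalarTower.of_algebraMap_eq fun r => by
    show g.appLE W' Z₀ e' (h.appLE U W' eW' r) = a.appLE W Z₀ e (algebraMap Γ(S, U) Γ(Xk, W) r)
    rw [hB, ← CommRingCat.comp_apply, ← CommRingCat.comp_apply, Scheme.Hom.appLE_comp_appLE,
      Scheme.Hom.appLE_comp_appLE]
    simp only [hw]
  haveI : IsScalarTower Γ(S, U) Γ(Y, W') Γ(F, W') :=
    IsScalarTower.of_algebraMap_smul fun r s => (hF r s).symm
  have hpo := FlatH4.isPushout_sections (UY := Z₀) H (hUST := eW') (hUSX := eW) hZ hU hW' hW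
  haveI : Algebra.IsPushout Γ(S, U) Γ(Xk, W) Γ(Y, W') Γ(Z, Z₀) := by
    refine CommRingCat.isPushout_iff_isPushout.1 ?_
    have eB : CommRingCat.ofHom (algebraMap Γ(S, U) Γ(Xk, W)) = fk.appLE U W eW := by
      ext r; exact hB r
    rw [eB]
    exact hpo
  obtain ⟨Φ, hΦ⟩ := exists_pullEquiv g F e' hW'
    (FlatH4.isAffineOpen_of_isPullback H eW' eW hZ hU hW' hW)
  exact bijective_of_isPushout Φ _ fun c y => by rw [bcSec_tmul, hΦ]; rfl

end Groth.Agent.QcohDesc12
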