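import Groth.Agent.Lib.QcohDesc12.Sheaf
import Groth.Agent.Lib.ModM1.QcohCrit

/-!
# Effectiveness of descent for quasi-coherent modules
-/

universe u

set_option linter.style.haveILetI false
set_option linter.unusedSectionVars false
set_option backward.isDefEq.respectTransparency false
set_option backward.isDefEq.respectTransparency.types false

open AlgebraicGeometry CategoryTheory Limits TensorProduct CategoryTheory.Pseudofunctor

namespace Groth.Agent.QcohDesc12

open ModLimH13 _root_.Desc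

lemma basicOpen_appLE {A B : Scheme.{u}} (φ : A ⟶ B) {U : B.Opens} {W : A.Opens} (e : W ≤ φ ⁻¹ᵁ U)
    (r : Γ(B, U)) : A.basicOpen (φ.appLE U W e r) = W ⊓ φ ⁻¹ᵁ B.basicOpen r := by
  rw [Scheme.Hom.appLE, CommRingCat.comp_apply, Scheme.basicOpen_res, Scheme.preimage_basicOpen]

variable {ι : Type u} {S : Scheme.{u}} {X : ι → Scheme.{u}} {f : ∀ i, X i ⟶ S}

namespace Pieces

variable {U : S.Opens} (P : Pieces f U)

/-- The pieces over a basic open. -/
noncomputable def basic (r : Γ(S, U)) : Pieces f (S.basicOpen r) where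
  K := P.K
  fin := P.fin
  idx := P.idx
  W k := (X (P.idx k)).basicOpen ((f (P.idx k)).appLE U (P.W k) (P.le k) r)
  aff k := (P.aff k).basicOpen _
  le k := (basicOpen_appLE _ (P.le k) r).le.trans inf_le_right
  cov x hx := by
    obtain ⟨k, y, hy, hyx⟩ := P.cov x (S.basicOpen_le r hx)
    refine ⟨k, y, ?_, hyx⟩
    rw [basicOpen_appLE]
    exact ⟨hy, show f (P.idx k) y ∈ S.basicOpen r by rw [hyx]; exact hx⟩

end Pieces

variable {D : modPF.{u}.DescentData f} (hf : Presieve.ofArrows X f ∈ Scheme.fpqcPrecoverage S)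
  [∀ i, Coh.IsQCoh (ob D i)]
include hf

theorem isQCoh_glued : Coh.IsQCoh (glued D) := by
  classical
  haveI := fun i => flat_of_mem hf i
  refine M1.isQCoh_of_loc_affine _ ?_ ?_
  · intro U hU r g
    haveI : Fact (IsAffineOpen U) := ⟨hU⟩
    haveI : Fact (IsAffineOpen (S.basicOpen r)) := ⟨hU.basicOpen r⟩
    obtain ⟨P⟩ := exists_pieces hf hU
    let P' := P.basic r
    let gr := fun k => (f (P.idx k)).appLE U (P.W k) (P.le k) r
    let T := fun k => M1.mres (ob D (P.idx k)) (P'.le k) (comp g (P.idx k))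
    choose e n hn using fun k => M1.exists_pow_smul_eq_res_affine (ob D (P.idx k)) (P.aff k) (gr k) (T k)
    haveI := Fintype.ofFinite P.K
    let m := Finset.univ.sup e
    have hem : ∀ k, e k ≤ m := fun k => Finset.le_sup (Finset.mem_univ k)
    let rT := fun i => (f i).appLE (S.basicOpen r) (f i ⁻¹ᵁ S.basicOpen r) le_rfl
      (M1.ores (S.basicOpen_le r) r)
    have hres : ∀ (i : ι) (W W₀ : (X i).Opens) (hW : W ≤ f i ⁻¹ᵁ U) (hW₀ : W₀ ≤ W)
        (hW₀' : W₀ ≤ f i ⁻¹ᵁ S.basicOpen r),
        M1.ores hW₀ ((f i).appLE U W hW r) =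
          (f i).appLE (S.basicOpen r) W₀ hW₀' (M1.ores (S.basicOpen_le r) r) := fun i W W₀ hW hW₀ hW₀' => by
      simp only [M1.ores, ← CommRingCat.comp_apply, Scheme.Hom.appLE_map, Scheme.Hom.map_appLE]
    let n' := fun k => gr k ^ (m - e k) • n k
    have hn' : ∀ k, M1.mres (ob D (P.idx k)) ((X (P.idx k)).basicOpen_le (gr k)) (n' k) =
        (f (P.idx k)).appLE (S.basicOpen r) (P'.W k) (P'.le k) (M1.ores (S.basicOpen_le r) r) ^ m • T k := by
      intro k
      rw [← hres (P.idx k) (P.W k) (P'.W k) (P.le k) ((X (P.idx k)).basicOpen_le (gr k)) (P'.le k),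
        M1.mres_smul, hn k, smul_smul, map_pow, ← pow_add, Nat.sub_add_cancel (hem k)]
      rfl
    have hkl : ∀ k l, ∃ N : ℕ, Agree D (gr k ^ N • n' k) (gr l ^ N • n' l) := fun k l => by
      let p₁ := pullback.fst (f (P.idx k)) (f (P.idx l))
      let p₂ := pullback.snd (f (P.idx k)) (f (P.idx l))
      let W := p₁ ⁻¹ᵁ P.W k ⊓ p₂ ⁻¹ᵁ P.W l
      have hW : IsAffineOpen W :=
        FlatH4.isAffineOpen_of_isPullback (IsPullback.of_hasPullback (f (P.idx k)) (f (P.idx l)))
          (P.le l) (P.le k) rfl hU (P.aff l) (P.aff k)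
      let G := (Scheme.Modules.pullback p₂).obj (ob D (P.idx l))
      haveI : Coh.IsQCoh G := M1.isQCoh_pullback p₂ inferInstance
      let hφ := hm D (p₁ ≫ f (P.idx k)) p₁ p₂ rfl pullback.condition.symm
      let d : Γ(G, W) := hφ.app W (res' p₁ _ inf_le_left (n' k)) - res' p₂ _ inf_le_right (n' l)
      let h := p₁.appLE (P.W k) W inf_le_left (gr k)
      have h2 : h = p₂.appLE (P.W l) W inf_le_right (gr l) := by
        simp only [h, gr, ← CommRingCat.comp_apply, Scheme.Hom.appLE_comp_appLE]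
        simp only [p₁, p₂, pullback.condition]
      have e1 : (pullback (f (P.idx k)) (f (P.idx l))).basicOpen h ≤ p₁ ⁻¹ᵁ P'.W k :=
        (basicOpen_appLE p₁ inf_le_left (gr k)).le.trans inf_le_right
      have e2 : (pullback (f (P.idx k)) (f (P.idx l))).basicOpen h ≤ p₂ ⁻¹ᵁ P'.W l := by
        rw [h2]; exact (basicOpen_appLE p₂ inf_le_right (gr l)).le.trans inf_le_right
      have hd : M1.mres G ((pullback (f (P.idx k)) (f (P.idx l))).basicOpen_le h) d = 0 := by
        rw [map_sub, ← M1.app_mres, mres_res', mres_res', sub_eq_zero]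
        rw [← res'_mres p₁ (ob D (P.idx k)) ((X (P.idx k)).basicOpen_le (gr k)) e1,
          ← res'_mres p₂ (ob D (P.idx l)) ((X (P.idx l)).basicOpen_le (gr l)) e2, hn', hn']
        have hA := ((agree_comp g (P.idx k) (P.idx l)).mres (P'.le k) (P'.le l)).smul
          (U := S.basicOpen r) (P'.le k) (P'.le l) (M1.ores (S.basicOpen_le r) r ^ m)
        simp only [map_pow] at hA
        exact hA p₁ p₂ pullback.condition.symm _ e1 e2
      obtain ⟨N, hN⟩ := M1.exists_pow_smul_eq_zero_affine G hW h d hd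
      refine ⟨N, Agree.of_pullback ?_⟩
      rw [res'_smul (r := gr k ^ N) (s := n' k), res'_smul (r := gr l ^ N) (s := n' l),
        Scheme.Modules.Hom.app_smul, map_pow, map_pow]
      have h3 : h ^ N • hφ.app W (res' p₁ (ob D (P.idx k)) inf_le_left (n' k)) =
          h ^ N • res' p₂ (ob D (P.idx l)) inf_le_right (n' l) :=
        sub_eq_zero.1 ((smul_sub _ _ _).symm.trans hN)
      nth_rw 2 [h2] at h3
      exact h3
    choose N hN using hkl
    let K₀ := Finset.univ.sup fun p : P.K × P.K => N p.1 p.2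
    have hA : ∀ k l, Agree D (gr k ^ K₀ • n' k) (gr l ^ K₀ • n' l) := fun k l => by
      have hle : N k l ≤ K₀ := Finset.le_sup (f := fun p : P.K × P.K => N p.1 p.2) (Finset.mem_univ (k, l))
      rw [← Nat.sub_add_cancel hle, pow_add, pow_add, mul_smul, mul_smul]
      have h1 := (hN k l).smul (P.le k) (P.le l) (r ^ (K₀ - N k l))
      simp only [map_pow] at h1
      exact h1
    obtain ⟨t, ht, htk⟩ := P.exists_glue _ hA
    obtain ⟨g₀, hg₀⟩ := exists_comp_eq t ht
    refine ⟨K₀ + m, g₀, comp_injective _ _ fun i => congrFun (P'.glue_unique _ _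
      (agree_comp _) (agree_comp _) fun k => ?_) i⟩
    rw [comp_mres, comp_smul, M1.mres_mres, hg₀, map_pow, M1.mres_smul, map_pow]
    refine Eq.trans ((M1.mres_mres (ob D (P.idx k)) (P.le k) ((X (P.idx k)).basicOpen_le (gr k)) _).symm.trans
      (congrArg _ (htk k))) ?_
    rw [M1.mres_smul, map_pow, hn']
    have hg : M1.ores ((X (P.idx k)).basicOpen_le (gr k)) (gr k) =
        (f (P.idx k)).appLE (S.basicOpen r) (P'.W k) (P'.le k) (M1.ores (S.basicOpen_le r) r) :=
      hres (P.idx k) (P.W k) (P'.W k) (P.le k) ((X (P.idx k)).basicOpen_le (gr k)) (P'.le k)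
    rw [hg, smul_smul, ← pow_add]
    refine congrArg (fun z : Γ(X (P.idx k), P'.W k) => z ^ (K₀ + m) • T k) ?_
    simp only [M1.ores, ← CommRingCat.comp_apply, Scheme.Hom.appLE_map, Scheme.Hom.map_appLE]
    rfl
  · intro U hU r g hg
    haveI : Fact (IsAffineOpen U) := ⟨hU⟩
    obtain ⟨P⟩ := exists_pieces hf hU
    have hk : ∀ k, ∃ e : ℕ, (f (P.idx k)).appLE U (P.W k) (P.le k) r ^ e •
        M1.mres (ob D (P.idx k)) (P.le k) (comp g (P.idx k)) = 0 := fun k => by
      refine M1.exists_pow_smul_eq_zero_affine (ob D (P.idx k)) (P.aff k) _ _ ?_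
      rw [M1.mres_mres, ← M1.mres_mres (ob D (P.idx k)) ((f (P.idx k)).preimage_mono (S.basicOpen_le r))
        ((basicOpen_appLE _ (P.le k) r).le.trans inf_le_right), ← comp_mres (S.basicOpen_le r) g, hg, comp_zero, map_zero]
    choose e he using hk
    haveI := Fintype.ofFinite P.K
    refine ⟨Finset.univ.sup e, comp_injective _ _ fun i => congrFun (P.glue_unique _ _
      (agree_comp _) (agree_comp _) fun k => ?_) i⟩
    rw [comp_smul, comp_zero, map_zero, M1.mres_smul, map_pow, map_pow]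
    have hle : e k ≤ Finset.univ.sup e := Finset.le_sup (Finset.mem_univ k)
    rw [← Nat.sub_add_cancel hle, pow_add, mul_smul]
    have h1 : M1.ores (P.le k) ((f (P.idx k)).appLE U (f (P.idx k) ⁻¹ᵁ U) le_rfl r) =
        (f (P.idx k)).appLE U (P.W k) (P.le k) r := by
      simp only [M1.ores, ← CommRingCat.comp_apply, Scheme.Hom.appLE_map]
    rw [h1, he k, smul_zero]

theorem gluedν_bijective {i : ι} {U : S.Opens} (hU : IsAffineOpen U) {V : (X i).Opens}
    (hV : IsAffineOpen V) (e : V ≤ f i ⁻¹ᵁ U) : Function.Bijective ((gluedν D i).app V) := by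
  haveI := fun i => flat_of_mem hf i
  haveI := isQCoh_glued (D := D) hf
  haveI : Fact (IsAffineOpen U) := ⟨hU⟩
  obtain ⟨P₀⟩ := exists_pieces hf hU
  let P := P₀.add hV e
  let j : Γ(glued D, U) →ₗ[Γ(S, U)] P.M₀ D :=
    { toFun := fun g => ⟨fun k => M1.mres _ (P.le k) (comp g (P.idx k)),
        (P.mem_M₀ D _).2 fun k l => (agree_comp g _ _).mres (P.le k) (P.le l)⟩
      map_add' := fun g g' => Subtype.ext (funext fun k => by
        show M1.mres _ _ (comp (g + g') _) = M1.mres _ _ _ + M1.mres _ _ _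
        rw [comp_add, map_add])
      map_smul' := fun r g => Subtype.ext (funext fun k => by
        show M1.mres _ (P.le k) (comp (r • g) (P.idx k)) =
          (f (P.idx k)).appLE U (P.W k) (P.le k) r • M1.mres _ (P.le k) (comp g (P.idx k))
        rw [comp_smul, M1.mres_smul]
        simp only [M1.ores, ← CommRingCat.comp_apply, Scheme.Hom.appLE_map]) }
  have hj : Function.Bijective j := by
    refine ⟨fun g g' h => comp_injective _ _ fun l => congrFun (P.glue_unique _ _ (agree_comp g)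
      (agree_comp g') fun k => congrFun (congrArg Subtype.val h) k) l, fun n => ?_⟩
    obtain ⟨t, ht, htk⟩ := P.exists_glue n.1 ((P.mem_M₀ D n.1).1 n.2)
    obtain ⟨g, hg⟩ := exists_comp_eq t ht
    refine ⟨g, Subtype.ext (funext fun k => ?_)⟩
    show M1.mres _ (P.le k) (comp g (P.idx k)) = n.1 k
    rw [hg]; exact htk k
  obtain ⟨Φ, hΦ⟩ := exists_pullEquiv (f i) (glued D) e hU hV
  letI : Algebra Γ(S, U) Γ(X i, V) := ((f i).appLE U V e).hom.toAlgebra
  have h : ∀ z : Γ(X i, V) ⊗[Γ(S, U)] Γ(glued D, U),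
      (gluedν D i).app V (Φ z) = bcMap (fun k l => P.rho D k l) none (j.lTensor _ z) := fun z => by
    induction z using TensorProduct.induction_on with
    | zero => simp
    | tmul c g =>
      rw [hΦ, Scheme.Modules.Hom.app_smul, gluedν_res']
      exact (bcMap_tmul (fun k l => P.rho D k l) none c (j g)).symm
    | add a b ha hb =>
      rw [map_add, map_add, ha, hb, map_add]
      exact (map_add _ _ _).symm
  have hl : Function.Bijective (j.lTensor Γ(X i, V)) :=
    (LinearEquiv.lTensor Γ(X i, V) (LinearEquiv.ofBijective j hj)).bijective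
  refine (Function.Bijective.of_comp_iff _ Φ.bijective).1 ?_
  rw [show ⇑((gluedν D i).app V) ∘ ⇑Φ = ⇑(bcMap (fun k l => P.rho D k l) none) ∘ ⇑(j.lTensor _) from
    funext h]
  exact (P.bcMap_bijective' D none).comp hl

theorem isIso_gluedν (i : ι) : IsIso (gluedν D i) := by
  let B : Set (X i).Opens := {V | IsAffineOpen V ∧ ∃ U : S.Opens, IsAffineOpen U ∧ V ≤ f i ⁻¹ᵁ U}
  have hB : TopologicalSpace.Opens.IsBasis B := by
    rw [TopologicalSpace.Opens.isBasis_iff_nbhd]
    intro O p hp
    obtain ⟨U, hU, hpU, -⟩ := exists_isAffineOpen_mem_and_subset (U := (⊤ : S.Opens))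
      (show f i p ∈ (⊤ : S.Opens) from trivial)
    obtain ⟨V, hV, hpV, hle⟩ := exists_isAffineOpen_mem_and_subset
      (show p ∈ O ⊓ f i ⁻¹ᵁ U from ⟨hp, hpU⟩)
    exact ⟨V, ⟨hV, U, hU, hle.trans inf_le_right⟩, hpV, hle.trans inf_le_left⟩
  have hbij : ∀ V ∈ B, Function.Bijective ((gluedν D i).app V) := by
    rintro V ⟨hV, U, hU, e⟩
    exact gluedν_bijective hf hU hV e
  haveI : Mono (gluedν D i) := M1.mono_of_basis _ B hB fun V hV => (hbij V hV).1
  haveI : Epi (gluedν D i) := (M1.epi_iff_locally_surjective _).2 fun O t p hp => by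
    obtain ⟨V, hV, hpV, hle⟩ := TopologicalSpace.Opens.isBasis_iff_nbhd.1 hB hp
    exact ⟨V, hle, hpV, (hbij V hV).2 _⟩
  exact isIso_of_mono_of_epi _

theorem gluedν_comm {Y : Scheme.{u}} (q : Y ⟶ S) {i j : ι} (a : Y ⟶ X i) (b : Y ⟶ X j)
    (ha : a ≫ f i = q) (hb : b ≫ f j = q) :
    (Scheme.Modules.pullback a).map (gluedν D i) ≫ hm D q a b ha hb =
      hm (canDatum f (glued D)) q a b ha hb ≫ (Scheme.Modules.pullback b).map (gluedν D j) := by
  subst ha
  haveI := isQCoh_glued (D := D) hf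
  haveI : Coh.IsQCoh ((Scheme.Modules.pullback (f i)).obj (glued D)) :=
    M1.isQCoh_pullback (f i) inferInstance
  refine pullback_hom_ext a _ _ _ fun p => ?_
  obtain ⟨U, hU, hpU, -⟩ := exists_isAffineOpen_mem_and_subset (U := (⊤ : S.Opens))
    (show f i p ∈ (⊤ : S.Opens) from trivial)
  obtain ⟨V, hV, hpV, hle₀⟩ := exists_isAffineOpen_mem_and_subset (show p ∈ f i ⁻¹ᵁ U from hpU)
  have hle : V ≤ f i ⁻¹ᵁ U := hle₀
  refine ⟨V, Set.range fun g : Γ(glued D, U) => res' (f i) (glued D) hle g, hpV, hV, ?_, ?_⟩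
  · refine eq_top_iff.2 fun z _ => ?_
    induction z using pullback_induction (f i) (glued D) hle hU hV with
    | h0 => exact Submodule.zero_mem _
    | hadd x y hx hy => exact Submodule.add_mem _ (hx trivial) (hy trivial)
    | hres c g => exact Submodule.smul_mem _ c (Submodule.subset_span ⟨g, rfl⟩)
  · rintro _ ⟨g, rfl⟩
    have hbU : a ⁻¹ᵁ V ≤ b ⁻¹ᵁ f j ⁻¹ᵁ U := by
      refine (a.preimage_mono hle).trans ?_
      intro z hz
      show f j (b z) ∈ U
      rw [← Scheme.Hom.comp_apply, hb, Scheme.Hom.comp_apply]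
      exact hz
    have h1 := ((agree_can (f := f) (glued D) g i j).mres hle le_rfl) a b hb _ le_rfl hbU
    have h2 := ((agree_comp g i j).mres hle le_rfl) a b hb _ le_rfl hbU
    unfold can at h1
    rw [M1.mres_id] at h1
    erw [mres_res'] at h1
    rw [M1.mres_id] at h2
    rw [M1.comp_app_apply, M1.comp_app_apply, map_res', gluedν_res']
    refine h2.trans ?_
    refine Eq.trans ?_ (congrArg (((Scheme.Modules.pullback b).map (gluedν D j)).app _) h1.symm)
    refine Eq.trans ?_ (map_res' b _ hbU (gluedν D j) _).symm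
    rw [gluedν_res', M1.mres_id]

/-- Descent data of quasi-coherent modules are effective. -/
theorem exists_iso_toDescentData :
    ∃ M : S.Modules, Coh.IsQCoh M ∧ Nonempty ((modPF.{u}.toDescentData f).obj M ≅ D) :=
  ⟨glued D, isQCoh_glued hf,
    ⟨DescentData.isoMk (fun i => @asIso _ _ _ _ (gluedν D i) (isIso_gluedν hf i))
      fun Y q i j a b ha hb => gluedν_comm hf q a b ha hb⟩⟩

end Groth.Agent.QcohDesc12
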