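import Groth.Agent.Lib.QcohDesc12.Glue
import Groth.Agent.Lib.ModLimH13.Hom1

/-!
# Descent of sections and of morphisms of quasi-coherent modules
-/

universe u

set_option linter.style.haveILetI false
set_option linter.unusedSectionVars false
set_option backward.isDefEq.respectTransparency false
set_option backward.isDefEq.respectTransparency.types false

open AlgebraicGeometry CategoryTheory Limits TensorProduct CategoryTheory.Pseudofunctor

namespace Groth.Agent.QcohDesc12

open ModLimH13 _root_.Desc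

variable {ι : Type u} {S : Scheme.{u}} {X : ι → Scheme.{u}} (f : ∀ i, X i ⟶ S)

/-- The canonical descent datum. -/
noncomputable abbrev canDatum (N : S.Modules) : modPF.{u}.DescentData f :=
  DescentData.ofObj (F := modPF.{u}) (f := f) N

instance isQCoh_ob_canDatum (N : S.Modules) [Coh.IsQCoh N] (i : ι) : Coh.IsQCoh (ob (canDatum f N) i) :=
  M1.isQCoh_pullback (f i) inferInstance

lemma hm_canDatum (N : S.Modules) {Y : Scheme.{u}} (q : Y ⟶ S) {i j : ι} (a : Y ⟶ X i) (b : Y ⟶ X j)
    (ha : a ≫ f i = q) (hb : b ≫ f j = q) :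
    hm (canDatum f N) q a b ha hb = (cmp a (f i) ha).hom.app N ≫ (cmp b (f j) hb).inv.app N := by
  show (modPF.{u}.mapComp' _ _ _ _).inv.toNatTrans.app _ ≫
    (modPF.{u}.mapComp' _ _ _ _).hom.toNatTrans.app _ = _
  rw [mapComp'_inv_app a (f i) q ha, mapComp'_hom_app b (f j) q hb]

/-- The sections induced by a section on the base. -/
noncomputable def can (N : S.Modules) {U : S.Opens} (s : Γ(N, U)) (i : ι) :
    Γ(ob (canDatum f N) i, f i ⁻¹ᵁ U) :=
  res' (f i) N le_rfl s

variable {f}

lemma agree_canDatum_iff (N : S.Modules) {i j : ι} {V : (X i).Opens} {V' : (X j).Opens}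
    (x : Γ(ob (canDatum f N) i, V)) (y : Γ(ob (canDatum f N) j, V')) :
    Agree (canDatum f N) x y ↔ ∀ ⦃Y : Scheme.{u}⦄ (a : Y ⟶ X i) (b : Y ⟶ X j)
      (h : b ≫ f j = a ≫ f i) (W : Y.Opens) (e : W ≤ a ⁻¹ᵁ V) (e' : W ≤ b ⁻¹ᵁ V'),
      trans a (f i) N rfl e x = trans b (f j) N h e' y := by
  refine forall_congr' fun Y => forall_congr' fun a => forall_congr' fun b => forall_congr' fun h =>
    forall_congr' fun W => forall_congr' fun e => forall_congr' fun e' => ?_
  rw [hm_canDatum, M1.comp_app_apply]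
  have h1 : ∀ u, ((cmp b (f j) h).hom.app N).app W (((cmp b (f j) h).inv.app N).app W u) = u := fun u =>
    congrArg (fun φ => φ.app W u) ((cmp b (f j) h).inv_hom_id_app N)
  have h2 : ∀ u, ((cmp b (f j) h).inv.app N).app W (((cmp b (f j) h).hom.app N).app W u) = u := fun u =>
    congrArg (fun φ => φ.app W u) ((cmp b (f j) h).hom_inv_id_app N)
  constructor
  · intro hh
    have := congrArg (((cmp b (f j) h).hom.app N).app W) hh
    exact (h1 _).symm.trans this
  · intro hh
    refine Eq.trans (congrArg (((cmp b (f j) h).inv.app N).app W) hh) ?_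
    exact h2 _

lemma agree_can (N : S.Modules) {U : S.Opens} (s : Γ(N, U)) (i j : ι) :
    Agree (canDatum f N) (can f N s i) (can f N s j) :=
  (agree_canDatum_iff N _ _).2 fun Y a b h W e e' => by
    unfold can
    rw [trans_res', trans_res']

variable (hf : Presieve.ofArrows X f ∈ Scheme.fpqcPrecoverage S)
include hf

/-- A section is determined by its pullbacks to the members. -/
theorem can_injective (N : S.Modules) {U : S.Opens} (s s' : Γ(N, U))
    (h : ∀ i, can f N s i = can f N s' i) : s = s' :=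
  eq_of_res' N s s' fun x hx => by
    obtain ⟨i, y, rfl⟩ := ((Scheme.ofArrows_mem_precoverage_iff @Flat).mp hf.2).1 x
    exact ⟨X i, f i, flat_of_mem hf i, f i ⁻¹ᵁ U, le_rfl, y, hx, rfl, h i⟩

/-- Descent of sections over an affine open. -/
theorem exists_desc_affine (N : S.Modules) [Coh.IsQCoh N] {U : S.Opens} (hU : IsAffineOpen U)
    (t : ∀ i, Γ(ob (canDatum f N) i, f i ⁻¹ᵁ U)) (ht : ∀ i j, Agree (canDatum f N) (t i) (t j)) :
    ∃ s : Γ(N, U), ∀ i, can f N s i = t i := by
  haveI := fun i => flat_of_mem hf i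
  haveI : Fact (IsAffineOpen U) := ⟨hU⟩
  obtain ⟨P⟩ := exists_pieces hf hU
  let D := canDatum f N
  let j : Γ(N, U) →ₗ[Γ(S, U)] P.M₀ D :=
    { toFun := fun s => ⟨fun k => M1.mres _ (P.le k) (can f N s (P.idx k)),
        (P.mem_M₀ D _).2 fun k l => (agree_can N s _ _).mres (P.le k) (P.le l)⟩
      map_add' := fun s s' => Subtype.ext (funext fun k => by
        show M1.mres _ _ (res' _ _ _ (s + s')) = M1.mres _ _ _ + M1.mres _ _ _
        rw [res'_add, map_add]
        rfl)
      map_smul' := fun r s => Subtype.ext (funext fun k => by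
        show M1.mres _ (P.le k) (res' (f (P.idx k)) N le_rfl (r • s)) =
          (f (P.idx k)).appLE U (P.W k) (P.le k) r • M1.mres _ (P.le k) (res' (f (P.idx k)) N le_rfl s)
        erw [mres_res', mres_res', res'_smul]) }
  have hj : Function.Bijective j := by
    refine bijective_of_forall_lTensor (B := fun k => Γ(X (P.idx k), P.W k))
      (fun p => P.comap_surjective p) j fun k => ?_
    obtain ⟨Φ, hΦ⟩ := exists_pullEquiv (f (P.idx k)) N (P.le k) hU (P.aff k)
    have h : ∀ z, bcMap (fun k l => P.rho D k l) k (j.lTensor _ z) = Φ z := fun z => by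
      induction z using TensorProduct.induction_on with
      | zero => exact (map_zero _).trans (map_zero Φ).symm
      | tmul c s =>
        refine (bcMap_tmul _ _ _ _).trans (Eq.trans ?_ (hΦ c s).symm)
        show c • M1.mres _ (P.le k) (res' (f (P.idx k)) N le_rfl s) = _
        erw [mres_res']
      | add a b ha hb =>
        rw [map_add, map_add]
        exact (congrArg₂ (· + ·) ha hb).trans (map_add Φ a b).symm
    refine (Function.Bijective.of_comp_iff' (P.bcMap_bijective' D k) _).1 ?_
    rw [show ⇑(bcMap (fun k l => P.rho D k l) k) ∘ ⇑(j.lTensor _) = ⇑Φ from funext h]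
    exact Φ.bijective
  obtain ⟨s, hs⟩ := hj.2 ⟨fun k => M1.mres _ (P.le k) (t (P.idx k)),
    (P.mem_M₀ D _).2 fun k l => (ht _ _).mres (P.le k) (P.le l)⟩
  refine ⟨s, fun i => ?_⟩
  exact congrFun (P.glue_unique (can f N s) t (agree_can N s) ht
    fun k => congrFun (congrArg Subtype.val hs) k) i

/-- Descent of sections. -/
theorem exists_desc (N : S.Modules) [Coh.IsQCoh N] {U : S.Opens}
    (t : ∀ i, Γ(ob (canDatum f N) i, f i ⁻¹ᵁ U)) (ht : ∀ i j, Agree (canDatum f N) (t i) (t j)) :
    ∃ s : Γ(N, U), ∀ i, can f N s i = t i := by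
  let A := {V : S.Opens // IsAffineOpen V ∧ V ≤ U}
  have hloc : ∀ x ∈ U, ∃ V : A, x ∈ V.1 := fun x hx => by
    obtain ⟨V, hV, hxV, hle⟩ := exists_isAffineOpen_mem_and_subset hx
    exact ⟨⟨V, hV, hle⟩, hxV⟩
  choose σ hσ using fun V : A => exists_desc_affine hf N V.2.1
    (fun i => M1.mres _ ((f i).preimage_mono V.2.2) (t i))
    (fun i j => (ht i j).mres ((f i).preimage_mono V.2.2) ((f j).preimage_mono V.2.2))
  have hcan : ∀ (W : S.Opens) (V : S.Opens) (h : V ≤ W) (s : Γ(N, W)) (i : ι),
      can f N (M1.mres N h s) i = M1.mres _ ((f i).preimage_mono h) (can f N s i) := fun W V h s i => by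
    unfold can
    erw [res'_mres, mres_res']
    rfl
  obtain ⟨s, hs, -⟩ := TopCat.Sheaf.existsUnique_gluing' ⟨N.presheaf, N.isSheaf⟩ (fun V : A => V.1) U
    (fun V => homOfLE V.2.2) (fun x hx => TopologicalSpace.Opens.mem_iSup.2 (hloc x hx)) σ
    fun V V' => by
      show M1.mres N (inf_le_left : V.1 ⊓ V'.1 ≤ V.1) (σ V) = M1.mres N inf_le_right (σ V')
      refine can_injective hf N _ _ fun i => ?_
      rw [hcan, hcan, hσ, hσ, M1.mres_mres, M1.mres_mres]
  refine ⟨s, fun i => M1.section_ext _ _ fun p hp => ?_⟩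
  obtain ⟨V, hV⟩ := hloc (f i p) hp
  have e : f i ⁻¹ᵁ V.1 ≤ f i ⁻¹ᵁ U := (f i).preimage_mono V.2.2
  have hpV : p ∈ f i ⁻¹ᵁ V.1 := hV
  rw [← M1.germ_mres _ e hpV, ← hcan U V.1 V.2.2, show M1.mres N V.2.2 s = σ V from hs V, hσ,
    M1.germ_mres]

theorem map_toDescentData_injective (M N : S.Modules) :
    Function.Injective ((modPF.{u}.toDescentData f).map : (M ⟶ N) → _) := by
  intro φ ψ h
  refine Scheme.Modules.hom_ext _ _ fun U => ?_
  ext s
  refine can_injective hf N _ _ fun i => ?_
  have hi : (Scheme.Modules.pullback (f i)).map φ = (Scheme.Modules.pullback (f i)).map ψ :=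
    congrArg (fun η => DescentData.Hom.hom η i) h
  unfold can
  rw [← map_res', ← map_res', hi]

theorem map_toDescentData_surjective (M N : S.Modules) [Coh.IsQCoh M] [Coh.IsQCoh N] :
    Function.Surjective ((modPF.{u}.toDescentData f).map : (M ⟶ N) → _) := by
  intro η
  let ηi : ∀ i, ob (canDatum f M) i ⟶ ob (canDatum f N) i := fun i => DescentData.Hom.hom η i
  have hη : ∀ (U : S.Opens) (s : Γ(M, U)) (i j : ι),
      Agree (canDatum f N) ((ηi i).app _ (can f M s i)) ((ηi j).app _ (can f M s j)) := by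
    intro U s i j Y a b hab W e e'
    have hc : (Scheme.Modules.pullback a).map (ηi i) ≫ hm (canDatum f N) (a ≫ f i) a b rfl hab =
        hm (canDatum f M) (a ≫ f i) a b rfl hab ≫ (Scheme.Modules.pullback b).map (ηi j) :=
      DescentData.Hom.comm η (a ≫ f i) a b rfl hab
    rw [← map_res', ← map_res', ← agree_can M s i j a b hab W e e', ← M1.comp_app_apply,
      ← M1.comp_app_apply, hc]
  choose φ hφ using fun (U : S.Opens) (s : Γ(M, U)) =>
    exists_desc hf N (fun i => (ηi i).app _ (can f M s i)) (hη U s)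
  let app : ∀ U : S.Opens, Γ(M, U) →+ Γ(N, U) := fun U => AddMonoidHom.mk' (φ U) fun s s' =>
    can_injective hf N _ _ fun i => by
      rw [hφ]
      unfold can
      rw [res'_add, res'_add]
      exact (map_add _ _ _).trans (congrArg₂ (· + ·) (hφ U s i).symm (hφ U s' i).symm)
  have hsmul : ∀ (U : S.Opens) (r : Γ(S, U)) (s : Γ(M, U)), φ U (r • s) = r • φ U s :=
    fun U r s => can_injective hf N _ _ fun i => by
      rw [hφ]
      unfold can
      rw [res'_smul, res'_smul]
      exact (Scheme.Modules.Hom.app_smul _ _ _).trans (congrArg _ (hφ U s i).symm)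
  let Φ : M ⟶ N := ⟨PresheafOfModules.homMk (M₁ := M.val) (M₂ := N.val)
    { app := fun U => AddCommGrpCat.ofHom (app U.unop)
      naturality := fun {U V} k => by
        ext s
        refine can_injective hf N _ _ fun i => ?_
        show can f N (φ V.unop (M1.mres M k.unop.le s)) i = can f N (M1.mres N k.unop.le (φ U.unop s)) i
        rw [hφ]
        unfold can
        rw [res'_mres, res'_mres, ← mres_res' (f i) M le_rfl ((f i).preimage_mono k.unop.le),
          ← mres_res' (f i) N le_rfl ((f i).preimage_mono k.unop.le)]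
        erw [M1.app_mres]
        exact congrArg _ (hφ U.unop s i).symm }
    (fun U r s => hsmul U.unop r s)⟩
  refine ⟨Φ, DescentData.hom_ext fun i => ?_⟩
  show (Scheme.Modules.pullback (f i)).map Φ = ηi i
  refine pullback_hom_ext (f i) M _ _ fun x => ?_
  obtain ⟨V, hV, hxV, -⟩ := exists_isAffineOpen_mem_and_subset (U := (⊤ : S.Opens))
    (show x ∈ (⊤ : S.Opens) from trivial)
  refine ⟨V, Set.univ, hxV, hV, Submodule.span_univ, fun s _ => ?_⟩
  rw [map_res']
  exact hφ V s i

/-- Descent of morphisms. -/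
theorem map_toDescentData_bijective (M N : S.Modules) [Coh.IsQCoh M] [Coh.IsQCoh N] :
    Function.Bijective ((modPF.{u}.toDescentData f).map : (M ⟶ N) → _) :=
  ⟨map_toDescentData_injective hf M N, map_toDescentData_surjective hf M N⟩

end Groth.Agent.QcohDesc12
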