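import Groth.Agent.Lib.QcohDesc12.Pieces

/-!
# Compatible families of sections over an affine open
-/

universe u

set_option linter.style.haveILetI false
set_option linter.unusedSectionVars false
set_option backward.isDefEq.respectTransparency false
set_option backward.isDefEq.respectTransparency.types false

open AlgebraicGeometry CategoryTheory Limits TensorProduct

namespace Groth.Agent.QcohDesc12

open ModLimH13 _root_.Desc

variable {ι : Type u} {S : Scheme.{u}} {X : ι → Scheme.{u}} {f : ∀ i, X i ⟶ S}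
  {D : modPF.{u}.DescentData f}

lemma hm_congr {Y : Scheme.{u}} {q q' : Y ⟶ S} (e : q = q') {i j : ι} (a : Y ⟶ X i) (b : Y ⟶ X j)
    (ha : a ≫ f i = q) (hb : b ≫ f j = q) :
    hm D q a b ha hb = hm D q' a b (ha.trans e) (hb.trans e) := by
  subst e; rfl

lemma Agree.symm {i j : ι} {V : (X i).Opens} {V' : (X j).Opens} {x : Γ(ob D i, V)} {y : Γ(ob D j, V')}
    (h : Agree D x y) : Agree D y x := fun Y a b hab W e e' => by
  have h1 := h b a hab.symm W e' e
  rw [hm_congr hab b a rfl hab.symm] at h1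
  rw [← h1, ← M1.comp_app_apply, hm_comp, hm_self]
  rfl

variable [∀ i, Flat (f i)]

/-- A section is determined by the sections it agrees with on a covering. -/
theorem eq_of_agree {i : ι} {V : (X i).Opens} (x x' : Γ(ob D i, V))
    (h : ∀ p ∈ V, ∃ (j : ι) (V' : (X j).Opens) (y : Γ(ob D j, V')) (q : X j), q ∈ V' ∧ f j q = f i p ∧
      Agree D y x ∧ Agree D y x') : x = x' := by
  refine eq_of_res' (ob D i) x x' fun p hp => ?_
  obtain ⟨j, V', y, q, hq, hqp, hx, hx'⟩ := h p hp
  obtain ⟨z, hz1, hz2⟩ := Scheme.Pullback.exists_preimage_pullback q p hqp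
  let W : (pullback (f j) (f i)).Opens :=
    pullback.fst (f j) (f i) ⁻¹ᵁ V' ⊓ pullback.snd (f j) (f i) ⁻¹ᵁ V
  refine ⟨_, pullback.snd (f j) (f i), inferInstance, W, inf_le_right, z, ⟨?_, ?_⟩, hz2,
    (hx _ _ pullback.condition.symm W inf_le_left inf_le_right).symm.trans
      (hx' _ _ pullback.condition.symm W inf_le_left inf_le_right)⟩
  · show pullback.fst (f j) (f i) z ∈ V'
    rw [hz1]; exact hq
  · show pullback.snd (f j) (f i) z ∈ V
    rw [hz2]; exact hp

namespace Pieces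

variable {U : S.Opens} (P : Pieces f U)

lemma comap_surjective [hU : Fact (IsAffineOpen U)] (p : PrimeSpectrum Γ(S, U)) :
    ∃ k, p ∈ Set.range (PrimeSpectrum.comap (algebraMap Γ(S, U) Γ(X (P.idx k), P.W k))) := by
  have hx : hU.out.fromSpec p ∈ U := by
    rw [← SetLike.mem_coe, ← hU.out.range_fromSpec]
    exact ⟨p, rfl⟩
  obtain ⟨k, y, hy, hyx⟩ := P.cov _ hx
  refine ⟨k, (P.aff k).primeIdealOf ⟨y, hy⟩, ?_⟩
  refine (IsAffineOpen.comap_primeIdealOf_appLE U hU.out (P.W k) (P.aff k) (P.le k) hy).trans ?_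
  refine hU.out.fromSpec.isOpenEmbedding.injective ?_
  rw [hU.out.fromSpec_primeIdealOf]
  exact hyx

variable [∀ i, Coh.IsQCoh (ob D i)] [hU : Fact (IsAffineOpen U)]

variable {i : ι} {V : (X i).Opens} (hV : IsAffineOpen V) (e : V ≤ f i ⁻¹ᵁ U)

variable (D) in
/-- Restriction of compatible families to the original pieces. -/
noncomputable def proj : (P.add hV e).M₀ D →ₗ[Γ(S, U)] P.M₀ D where
  toFun n := ⟨fun k => n.1 (some k),
    (P.mem_M₀ D _).2 fun k l => ((P.add hV e).mem_M₀ D n.1).1 n.2 (some k) (some l)⟩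
  map_add' _ _ := rfl
  map_smul' _ _ := rfl

theorem proj_bijective : Function.Bijective (P.proj D hV e) := by
  refine bijective_of_forall_lTensor (B := fun k => Γ(X (P.idx k), P.W k)) (fun p => P.comap_surjective p)
    _ fun k => ?_
  have h : ∀ z, bcMap (fun k l => P.rho D k l) k ((P.proj D hV e).lTensor _ z) =
      bcMap (fun k l => (P.add hV e).rho D k l) (some k) z := fun z => by
    induction z using TensorProduct.induction_on with
    | zero => simp
    | tmul c n =>
      refine (bcMap_tmul _ _ _ _).trans ?_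
      exact (bcMap_tmul (fun k l => (P.add hV e).rho D k l) (some k) c n).symm
    | add a b ha hb => rw [map_add, map_add, ha, hb]; exact (map_add _ a b).symm
  refine (Function.Bijective.of_comp_iff' (P.bcMap_bijective' D k) _).1 ?_
  rw [show ⇑(bcMap (fun k l => P.rho D k l) k) ∘ ⇑((P.proj D hV e).lTensor _) =
    ⇑(bcMap (fun k l => (P.add hV e).rho D k l) (some k)) from funext h]
  exact (P.add hV e).bcMap_bijective' D (some k)

include hV e in
/-- A compatible family extends uniquely to further affine opens. -/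
theorem exists_ext (n : ∀ k, Γ(ob D (P.idx k), P.W k)) (hn : ∀ k l, Agree D (n k) (n l)) :
    ∃ x : Γ(ob D i, V), Agree D x x ∧ ∀ k, Agree D (n k) x := by
  obtain ⟨m, hm⟩ := (P.proj_bijective hV e).2 ⟨n, (P.mem_M₀ D n).2 hn⟩
  have h := ((P.add hV e).mem_M₀ D m.1).1 m.2
  refine ⟨m.1 none, h none none, fun k => ?_⟩
  have hk : m.1 (some k) = n k := congrFun (congrArg Subtype.val hm) k
  rw [← hk]
  exact h (some k) none

omit hV in
include e in
lemma ext_unique (n : ∀ k, Γ(ob D (P.idx k), P.W k)) (x x' : Γ(ob D i, V))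
    (h : ∀ k, Agree D (n k) x) (h' : ∀ k, Agree D (n k) x') : x = x' :=
  eq_of_agree x x' fun p hp => by
    obtain ⟨k, y, hy, hyp⟩ := P.cov (f i p) (e hp)
    exact ⟨_, _, n k, y, hy, hyp, h k, h' k⟩

include hV e in
/-- The two extensions of a compatible family agree. -/
theorem agree_ext (n : ∀ k, Γ(ob D (P.idx k), P.W k)) (hn : ∀ k l, Agree D (n k) (n l))
    {x : Γ(ob D i, V)} (hx : ∀ k, Agree D (n k) x)
    {j : ι} {V' : (X j).Opens} (hV' : IsAffineOpen V') (e' : V' ≤ f j ⁻¹ᵁ U) {x' : Γ(ob D j, V')}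
    (hx' : ∀ k, Agree D (n k) x') : Agree D x x' := by
  obtain ⟨x₀, hx₀, hx₀'⟩ := P.exists_ext hV e n hn
  obtain rfl := P.ext_unique e n x x₀ hx hx₀'
  let n' : ∀ k : (P.add hV e).K, Γ(ob D ((P.add hV e).idx k), (P.add hV e).W k) := fun
    | none => x
    | some k => n k
  have hn' : ∀ k l, Agree D (n' k) (n' l) := fun
    | none, none => hx₀
    | none, some l => (hx l).symm
    | some k, none => hx k
    | some k, some l => hn k l
  obtain ⟨y, -, hy⟩ := (P.add hV e).exists_ext hV' e' n' hn'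
  obtain rfl := P.ext_unique e' n x' y hx' fun k => hy (some k)
  exact hy none

/-- A compatible family on the pieces comes from a compatible family over `U`. -/
theorem exists_glue (n : ∀ k, Γ(ob D (P.idx k), P.W k)) (hn : ∀ k l, Agree D (n k) (n l)) :
    ∃ t : ∀ i, Γ(ob D i, f i ⁻¹ᵁ U), (∀ i j, Agree D (t i) (t j)) ∧
      ∀ k, M1.mres _ (P.le k) (t (P.idx k)) = n k := by
  classical
  let A := fun i => {V : (X i).Opens // IsAffineOpen V ∧ V ≤ f i ⁻¹ᵁ U}
  choose x hxx hx using fun i (V : A i) => P.exists_ext V.2.1 V.2.2 n hn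
  have hloc : ∀ i, ∀ p ∈ f i ⁻¹ᵁ U, ∃ V : A i, p ∈ V.1 := fun i p hp => by
    obtain ⟨V, hV, hpV, hVle⟩ := exists_isAffineOpen_mem_and_subset hp
    exact ⟨⟨V, hV, hVle⟩, hpV⟩
  have hex : ∀ i, ∃! t : Γ(ob D i, f i ⁻¹ᵁ U), ∀ V : A i, M1.mres _ V.2.2 t = x i V := fun i => by
    refine TopCat.Sheaf.existsUnique_gluing' ⟨(ob D i).presheaf, (ob D i).isSheaf⟩ (fun V : A i => V.1)
      (f i ⁻¹ᵁ U) (fun V => homOfLE V.2.2)
      (fun p hp => TopologicalSpace.Opens.mem_iSup.2 (hloc i p hp)) (x i) fun V V' => ?_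
    show M1.mres (ob D i) (inf_le_left : V.1 ⊓ V'.1 ≤ V.1) (x i V) = M1.mres (ob D i) inf_le_right (x i V')
    refine eq_of_agree _ _ fun p hp => ?_
    obtain ⟨k, y, hy, hyp⟩ := P.cov (f i p) (V.2.2 hp.1)
    refine ⟨_, _, M1.mres _ le_rfl (n k), y, hy, hyp, ?_, ?_⟩
    · exact (hx i V k).mres le_rfl inf_le_left
    · exact (hx i V' k).mres le_rfl inf_le_right
  choose t ht _ using hex
  refine ⟨t, fun i j => Agree.of_local fun p hp p' hp' _ => ?_, fun k => ?_⟩
  · obtain ⟨V, hpV⟩ := hloc i p hp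
    obtain ⟨V', hpV'⟩ := hloc j p' hp'
    refine ⟨V.1, V'.1, V.2.2, V'.2.2, hpV, hpV', ?_⟩
    rw [ht, ht]
    exact P.agree_ext V.2.1 V.2.2 n hn (hx i V) V'.2.1 V'.2.2 (hx j V')
  · refine P.ext_unique (P.le k) n _ _ (fun l => ?_) (fun l => hn l k)
    rw [ht _ ⟨P.W k, P.aff k, P.le k⟩]
    exact hx _ _ l

omit [∀ i, Coh.IsQCoh (ob D i)] in
/-- Compatible families over `U` are determined by their restrictions to the pieces. -/
theorem glue_unique (t t' : ∀ i, Γ(ob D i, f i ⁻¹ᵁ U)) (ht : ∀ i j, Agree D (t i) (t j))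
    (ht' : ∀ i j, Agree D (t' i) (t' j))
    (h : ∀ k, M1.mres _ (P.le k) (t (P.idx k)) = M1.mres _ (P.le k) (t' (P.idx k))) : t = t' := by
  funext i
  refine eq_of_agree _ _ fun p hp => ?_
  obtain ⟨k, y, hy, hyp⟩ := P.cov (f i p) hp
  refine ⟨_, _, M1.mres _ (P.le k) (t (P.idx k)), y, hy, hyp, ?_, ?_⟩
  · simpa using (ht (P.idx k) i).mres (P.le k) le_rfl
  · rw [h k]
    simpa using (ht' (P.idx k) i).mres (P.le k) le_rfl

end Pieces

end Groth.Agent.QcohDesc12
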