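import Groth.Agent.Lib.ModLimH13.Sections
import Mathlib.AlgebraicGeometry.Morphisms.Flat

/-!
# Pulled back sections along flat morphisms
-/

universe u

set_option linter.style.haveILetI false
set_option backward.isDefEq.respectTransparency false

open AlgebraicGeometry CategoryTheory Limits TensorProduct

namespace Groth.Agent.QcohDesc12

open ModLimH13

variable {X X' : Scheme.{u}}

lemma germ_res' (g : X' ⟶ X) (M : X.Modules) {W : X.Opens} {W' : X'.Opens} (e : W' ≤ g ⁻¹ᵁ W)
    (s : Γ(M, W)) (y : X') (hy : y ∈ W') :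
    ((Scheme.Modules.pullback g).obj M).presheaf.germ W' y hy (res' g M e s) =
      M2.stalkUnit g y M (M.presheaf.germ W (g y) (e hy) s) := by
  refine Eq.trans ?_ (M2.stalkUnitHom_germ g y M (e hy) s).symm
  exact TopCat.Presheaf.germ_res_apply _ (homOfLE e) y hy _

theorem stalkUnit_injective (g : X' ⟶ X) [Flat g] (y : X') (M : X.Modules) :
    Function.Injective (M2.stalkUnit g y M) := by
  have hb := M2.isBaseChange_stalkUnit g y M
  haveI : Module.Flat (X.presheaf.stalk (g y)) (X'.presheaf.stalk y) := Flat.stalkMap g y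
  haveI : IsLocalHom (algebraMap (X.presheaf.stalk (g y)) (X'.presheaf.stalk y)) :=
    inferInstanceAs (IsLocalHom (g.stalkMap y).hom)
  haveI := Module.FaithfullyFlat.of_flat_of_isLocalHom (A := X.presheaf.stalk (g y)) (B := X'.presheaf.stalk y)
  intro a b h
  refine Module.FaithfullyFlat.tensorProduct_mk_injective (A := X.presheaf.stalk (g y))
    (B := X'.presheaf.stalk y) _ (hb.equiv.injective ?_)
  show hb.equiv (1 ⊗ₜ a) = hb.equiv (1 ⊗ₜ b)
  rw [hb.equiv_tmul, hb.equiv_tmul, h]

/-- Sections are detected after pulling back along jointly surjective flat morphisms. -/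
theorem eq_of_res' {W : X.Opens} (M : X.Modules) (s t : Γ(M, W))
    (h : ∀ x ∈ W, ∃ (Z : Scheme.{u}) (g : Z ⟶ X) (_ : Flat g) (W' : Z.Opens) (e : W' ≤ g ⁻¹ᵁ W)
      (z : Z), z ∈ W' ∧ g z = x ∧ res' g M e s = res' g M e t) : s = t := by
  refine M1.section_ext s t fun x hx => ?_
  obtain ⟨Z, g, _, W', e, z, hz, rfl, heq⟩ := h x hx
  refine stalkUnit_injective g z M ?_
  rw [← germ_res' g M e s z hz, ← germ_res' g M e t z hz, heq]

/-- Sections are detected after pulling back along a surjective flat morphism. -/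
theorem res'_injective (g : X' ⟶ X) [Flat g] {W : X.Opens} {W' : X'.Opens} (M : X.Modules)
    (e : W' ≤ g ⁻¹ᵁ W) (hs : ∀ x ∈ W, ∃ z ∈ W', g z = x) : Function.Injective (res' g M (W := W) e) :=
  fun s t h => eq_of_res' M s t fun x hx => by
    obtain ⟨z, hz, hzx⟩ := hs x hx
    exact ⟨X', g, inferInstance, W', e, z, hz, hzx, h⟩

end Groth.Agent.QcohDesc12
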