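import Groth.Agent.Lib.QcohDesc12.Calc
import Groth.Agent.Lib.QcohDesc12.Stalk

/-!
# Compatible sections of a descent datum
-/

universe u

set_option linter.style.haveILetI false
set_option backward.isDefEq.respectTransparency false
set_option backward.isDefEq.respectTransparency.types false

open AlgebraicGeometry CategoryTheory Limits

namespace Groth.Agent.QcohDesc12

open ModLimH13 _root_.Desc

variable {ι : Type u} {S : Scheme.{u}} {X : ι → Scheme.{u}} {f : ∀ i, X i ⟶ S}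
  (D : modPF.{u}.DescentData f)

/-- Two sections of a descent datum which correspond on every common refinement. -/
def Agree {i j : ι} {V : (X i).Opens} {V' : (X j).Opens} (x : Γ(ob D i, V)) (y : Γ(ob D j, V')) : Prop :=
  ∀ ⦃Y : Scheme.{u}⦄ (a : Y ⟶ X i) (b : Y ⟶ X j) (h : b ≫ f j = a ≫ f i) (W : Y.Opens)
    (e : W ≤ a ⁻¹ᵁ V) (e' : W ≤ b ⁻¹ᵁ V'),
    (hm D (a ≫ f i) a b rfl h).app W (res' a (ob D i) e x) = res' b (ob D j) e' y

namespace Agree

variable {D} {i j : ι} {V : (X i).Opens} {V' : (X j).Opens}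

lemma zero : Agree D (0 : Γ(ob D i, V)) (0 : Γ(ob D j, V')) := fun Y a b h W e e' => by
  have h0 : ∀ {Z : Scheme.{u}} (g : Y ⟶ Z) (M : Z.Modules) {O : Z.Opens} (d : W ≤ g ⁻¹ᵁ O),
      res' g M (W := O) d 0 = 0 := fun g M O d => by
    simp [res', show M2.pullSec g M (0 : Γ(M, O)) = 0 from map_zero _]
  rw [h0, h0, map_zero]

lemma add {x x' : Γ(ob D i, V)} {y y' : Γ(ob D j, V')} (h : Agree D x y) (h' : Agree D x' y') :
    Agree D (x + x') (y + y') := fun Y a b hab W e e' => by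
  rw [res'_add, res'_add, map_add, h a b hab W e e', h' a b hab W e e']

lemma smul {x : Γ(ob D i, V)} {y : Γ(ob D j, V')} (h : Agree D x y) {U : S.Opens}
    (d : V ≤ f i ⁻¹ᵁ U) (d' : V' ≤ f j ⁻¹ᵁ U) (r : Γ(S, U)) :
    Agree D ((f i).appLE U V d r • x) ((f j).appLE U V' d' r • y) := fun Y a b hab W e e' => by
  rw [res'_smul, res'_smul, Scheme.Modules.Hom.app_smul, h a b hab W e e']
  congr 1
  rw [← CommRingCat.comp_apply, ← CommRingCat.comp_apply, Scheme.Hom.appLE_comp_appLE,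
    Scheme.Hom.appLE_comp_appLE]
  simp only [hab]

lemma mres {x : Γ(ob D i, V)} {y : Γ(ob D j, V')} (h : Agree D x y) {V₀ : (X i).Opens}
    {V₀' : (X j).Opens} (d : V₀ ≤ V) (d' : V₀' ≤ V') :
    Agree D (M1.mres _ d x) (M1.mres _ d' y) := fun Y a b hab W e e' => by
  rw [res'_mres, res'_mres]
  exact h a b hab W _ _

/-- Agreement is local. -/
lemma of_local {x : Γ(ob D i, V)} {y : Γ(ob D j, V')}
    (h : ∀ p ∈ V, ∀ p' ∈ V', f i p = f j p' → ∃ (V₀ : (X i).Opens) (V₀' : (X j).Opens) (d : V₀ ≤ V)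
      (d' : V₀' ≤ V'), p ∈ V₀ ∧ p' ∈ V₀' ∧ Agree D (M1.mres _ d x) (M1.mres _ d' y)) :
    Agree D x y := fun Y a b hab W e e' => by
  refine M1.section_ext _ _ fun z hz => ?_
  have hz' : f i (a z) = f j (b z) := by
    rw [← Scheme.Hom.comp_apply, ← Scheme.Hom.comp_apply, hab]
  obtain ⟨V₀, V₀', d, d', hp, hp', hA⟩ := h (a z) (e hz) (b z) (e' hz) hz'
  let W₀ : Y.Opens := W ⊓ (a ⁻¹ᵁ V₀ ⊓ b ⁻¹ᵁ V₀')
  have hW : W₀ ≤ W := inf_le_left
  have hzW : z ∈ W₀ := ⟨hz, hp, hp'⟩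
  have h1 := hA a b hab W₀ (inf_le_right.trans inf_le_left) (inf_le_right.trans inf_le_right)
  rw [res'_mres, res'_mres] at h1
  rw [← M1.germ_mres _ hW hzW, ← M1.app_mres, mres_res']
  refine Eq.trans (congrArg _ h1) ?_
  rw [← M1.germ_mres _ hW hzW, mres_res']

/-- Agreement may be tested on the fibre product. -/
lemma of_pullback {x : Γ(ob D i, V)} {y : Γ(ob D j, V')}
    (h : (hm D (pullback.fst (f i) (f j) ≫ f i) (pullback.fst (f i) (f j)) (pullback.snd (f i) (f j))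
        rfl pullback.condition.symm).app
        (pullback.fst (f i) (f j) ⁻¹ᵁ V ⊓ pullback.snd (f i) (f j) ⁻¹ᵁ V')
        (res' _ (ob D i) inf_le_left x) = res' _ (ob D j) inf_le_right y) :
    Agree D x y := fun Y a b hab W e e' => by
  let g : Y ⟶ pullback (f i) (f j) := pullback.lift a b hab.symm
  have wa : g ≫ pullback.fst (f i) (f j) = a := pullback.lift_fst _ _ _
  have wb : g ≫ pullback.snd (f i) (f j) = b := pullback.lift_snd _ _ _
  have d : W ≤ g ⁻¹ᵁ (pullback.fst (f i) (f j) ⁻¹ᵁ V ⊓ pullback.snd (f i) (f j) ⁻¹ᵁ V') := by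
    intro z hz
    refine ⟨?_, ?_⟩
    · show pullback.fst (f i) (f j) (g z) ∈ V
      rw [← Scheme.Hom.comp_apply, wa]
      exact e hz
    · show pullback.snd (f i) (f j) (g z) ∈ V'
      rw [← Scheme.Hom.comp_apply, wb]
      exact e' hz
  refine (hm_res' D g _ (a ≫ f i) (by rw [← Category.assoc, wa]) _ _ rfl pullback.condition.symm a b
    wa wb inf_le_left d e x _ h).trans ?_
  exact trans_res' g _ _ wb d inf_le_right y

end Agree

end Groth.Agent.QcohDesc12
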