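import Mathlib.LinearAlgebra.TensorProduct.Pi
import Mathlib.LinearAlgebra.TensorProduct.Tower
import Mathlib.RingTheory.Flat.Basic
import Mathlib.RingTheory.Flat.FaithfullyFlat.Algebra
import Mathlib.RingTheory.Spectrum.Prime.Basic
import Mathlib.Algebra.Module.Torsion.Basic
import Mathlib.RingTheory.Ideal.Quotient.Operations

/-!
# Descent of modules along finitely many flat algebras
-/

universe u v w

open TensorProduct

namespace Groth.Agent.QcohDesc12

section Descent

variable {A : Type u} [CommRing A] {K : Type w} [Finite K] {B : K → Type u} [∀ k, CommRing (B k)]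
  [∀ k, Algebra A (B k)] [∀ k, Module.Flat A (B k)] {N : K → Type u} [∀ k, AddCommGroup (N k)]
  [∀ k, Module A (N k)] [∀ k, Module (B k) (N k)] [∀ k, IsScalarTower A (B k) (N k)]
  (ρ : ∀ k l, N k →ₗ[B k] B k ⊗[A] N l)

/-- Multiplication. -/
noncomputable def mulMap (k : K) : B k ⊗[A] N k →ₗ[B k] N k :=
  (LinearMap.id : N k →ₗ[A] N k).liftBaseChange (B k)

omit [Finite K] [∀ k, Module.Flat A (B k)] in
lemma mulMap_tmul (k : K) (c : B k) (x : N k) : mulMap k (c ⊗ₜ[A] x) = c • x :=
  LinearMap.liftBaseChange_tmul _ _ _ _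

/-- The cocycle condition. -/
def IsCocycle : Prop := ∀ (k l m : K) (x : N k),
  ((ρ l m).restrictScalars A).lTensor (B k) (ρ k l x) =
    (TensorProduct.mk A (B l) (N m) 1).lTensor (B k) (ρ k m x)

/-- The difference map cutting out the descended module. -/
noncomputable def dmap : (∀ k, N k) →ₗ[A] ∀ p : K × K, B p.1 ⊗[A] N p.2 :=
  LinearMap.pi fun p => ((ρ p.1 p.2).restrictScalars A).comp (LinearMap.proj p.1) -
    (TensorProduct.mk A (B p.1) (N p.2) 1).comp (LinearMap.proj p.2)

omit [Finite K] [∀ k, Module.Flat A (B k)] in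
lemma mem_ker_dmap {n : ∀ k, N k} :
    n ∈ LinearMap.ker (dmap ρ) ↔ ∀ k l, ρ k l (n k) = (1 : B k) ⊗ₜ n l := by
  rw [LinearMap.mem_ker]
  constructor
  · intro h k l
    exact sub_eq_zero.1 (congrFun h (k, l))
  · intro h
    funext p
    exact sub_eq_zero.2 (h p.1 p.2)

/-- The map from the base change of the descended module. -/
noncomputable def bcMap (k : K) : B k ⊗[A] LinearMap.ker (dmap ρ) →ₗ[B k] N k :=
  ((LinearMap.proj k).comp (LinearMap.ker (dmap ρ)).subtype).liftBaseChange (B k)

omit [Finite K] [∀ k, Module.Flat A (B k)] in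
lemma bcMap_tmul (k : K) (c : B k) (n : LinearMap.ker (dmap ρ)) :
    bcMap ρ k (c ⊗ₜ[A] n) = c • n.1 k :=
  LinearMap.liftBaseChange_tmul _ _ _ _

/-- Descended modules are compatible with base change. -/
theorem bcMap_bijective (hself : ∀ k x, mulMap k (ρ k k x) = x) (hco : IsCocycle ρ) (k : K) :
    Function.Bijective (bcMap ρ k) := by
  classical
  cases nonempty_fintype K
  let pc := fun l => (LinearMap.proj l : (∀ k, N k) →ₗ[A] N l).lTensor (B k)
  let pd := fun p : K × K => (LinearMap.proj p :
    (∀ p : K × K, B p.1 ⊗[A] N p.2) →ₗ[A] B p.1 ⊗[A] N p.2).lTensor (B k)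
  have hpc : ∀ z l, pc l z = piRight A A (B k) N z l := fun z l => by
    induction z using TensorProduct.induction_on with
    | zero => simp
    | tmul c n => simp [pc]
    | add a b ha hb => rw [map_add, map_add, ha, hb]; rfl
  have hpd : ∀ z p, pd p z = piRight A A (B k) (fun p : K × K => B p.1 ⊗[A] N p.2) z p := fun z p => by
    induction z using TensorProduct.induction_on with
    | zero => simp
    | tmul c n => simp [pd]
    | add a b ha hb => rw [map_add, map_add, ha, hb]; rfl
  have hext : ∀ z z' : B k ⊗[A] (∀ k, N k), (∀ l, pc l z = pc l z') → z = z' := fun z z' h =>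
    (piRight A A (B k) N).injective (funext fun l => by rw [← hpc, ← hpc, h l])
  let d := (dmap ρ).lTensor (B k)
  have hd : ∀ z p, pd p (d z) = ((ρ p.1 p.2).restrictScalars A).lTensor (B k) (pc p.1 z) -
      (TensorProduct.mk A (B p.1) (N p.2) 1).lTensor (B k) (pc p.2 z) := fun z p => by
    simp only [pd, d, pc, ← LinearMap.comp_apply, ← LinearMap.lTensor_comp]
    rw [← LinearMap.sub_apply, ← LinearMap.lTensor_sub]
    rfl
  let i := (LinearMap.ker (dmap ρ)).subtype.lTensor (B k)
  have hi : Function.Injective i :=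
    Module.Flat.lTensor_preserves_injective_linearMap _ (LinearMap.ker (dmap ρ)).injective_subtype
  have hex : Function.Exact i d := Module.Flat.lTensor_exact _ (LinearMap.exact_subtype_ker_map _)
  have hμ : ∀ z, bcMap ρ k z = mulMap k (pc k (i z)) := fun z => by
    induction z using TensorProduct.induction_on with
    | zero => simp
    | tmul c n => simp only [i, pc, LinearMap.lTensor_tmul, bcMap_tmul, mulMap_tmul]; rfl
    | add a b ha hb => simp only [map_add, ha, hb]
  have key : ∀ z, d z = 0 → ∀ l, ρ k l (mulMap k (pc k z)) = pc l z := fun z hz l => by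
    have h := congrArg (mulMap (N := fun j => B j ⊗[A] N l) k)
      (show ((ρ k l).restrictScalars A).lTensor (B k) (pc k z) =
        (TensorProduct.mk A (B k) (N l) 1).lTensor (B k) (pc l z) from
        sub_eq_zero.1 (by rw [← hd z (k, l), hz, map_zero]))
    have h1 : ∀ y : B k ⊗[A] N k, mulMap (N := fun j => B j ⊗[A] N l) k
        (((ρ k l).restrictScalars A).lTensor (B k) y) = ρ k l (mulMap k y) := fun y => by
      induction y using TensorProduct.induction_on with
      | zero => simp
      | tmul c n => simp [mulMap_tmul]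
      | add a b ha hb => simp only [map_add, ha, hb]
    have h2 : ∀ y : B k ⊗[A] N l, mulMap (N := fun j => B j ⊗[A] N l) k
        ((TensorProduct.mk A (B k) (N l) 1).lTensor (B k) y) = y := fun y => by
      induction y using TensorProduct.induction_on with
      | zero => simp
      | tmul c n => simp [mulMap_tmul, TensorProduct.smul_tmul']
      | add a b ha hb => simp only [map_add, ha, hb]
    rwa [h1, h2] at h
  constructor
  · rw [injective_iff_map_eq_zero]
    intro z hz
    refine hi (((map_zero i).symm ▸ hext _ _ fun l => ?_))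
    rw [map_zero, ← key _ (hex.apply_apply_eq_zero z) l, ← hμ, hz, map_zero]
  · intro x
    let z := (piRight A A (B k) N).symm fun l => ρ k l x
    have hz : ∀ l, pc l z = ρ k l x := fun l => by
      rw [hpc, LinearEquiv.apply_symm_apply]
    have hdz : d z = 0 := (piRight A A (B k) _).injective (funext fun p => by
      rw [← hpd, hd, hz, hz, map_zero]
      exact sub_eq_zero.2 (hco k p.1 p.2 x))
    obtain ⟨w, hw⟩ := (hex z).1 hdz
    exact ⟨w, by rw [hμ, hw, hz, hself]⟩

end Descent

section JointlyFF

variable {A : Type u} [CommRing A] {K : Type w} {B : K → Type u} [∀ k, CommRing (B k)]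
  [∀ k, Algebra A (B k)] [∀ k, Module.Flat A (B k)]
  (hcov : ∀ p : PrimeSpectrum A, ∃ k, p ∈ Set.range (PrimeSpectrum.comap (algebraMap A (B k))))

include hcov in
/-- An element killed by all base changes is zero. -/
theorem eq_zero_of_forall_tmul_eq_zero {P : Type u} [AddCommGroup P] [Module A P] (x : P)
    (h : ∀ k, (1 : B k) ⊗ₜ[A] x = 0) : x = 0 := by
  by_contra hx
  have hI : Ideal.torsionOf A P x ≠ ⊤ := fun hI => hx ((Ideal.torsionOf_eq_top_iff A x).1 hI)
  obtain ⟨p, hp, hle⟩ := Ideal.exists_le_maximal _ hI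
  obtain ⟨k, q, hq⟩ := hcov ⟨p, hp.isPrime⟩
  let φ : A ⧸ Ideal.torsionOf A P x →ₗ[A] P :=
    (Submodule.span A {x}).subtype.comp (Ideal.quotTorsionOfEquivSpanSingleton A P x).toLinearMap
  have hφ : Function.Injective φ :=
    (Submodule.span A {x}).injective_subtype.comp (LinearEquiv.injective _)
  have hφ1 : φ (Submodule.Quotient.mk 1) = x := by
    show (Submodule.span A {x}).subtype (Ideal.quotTorsionOfEquivSpanSingleton A P x (Submodule.Quotient.mk 1)) = x
    rw [Ideal.quotTorsionOfEquivSpanSingleton_apply_mk]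
    exact one_smul A x
  have h0 : (1 : B k) ⊗ₜ[A] (Submodule.Quotient.mk 1 : A ⧸ Ideal.torsionOf A P x) = 0 := by
    refine Module.Flat.lTensor_preserves_injective_linearMap (M := B k) φ hφ ?_
    rw [LinearMap.lTensor_tmul, hφ1, h k, map_zero]
  let J := (Ideal.torsionOf A P x).map (algebraMap A (B k))
  let g : A ⧸ Ideal.torsionOf A P x →ₗ[A] B k ⧸ J :=
    Submodule.liftQ _ ((Ideal.Quotient.mkₐ A J).toLinearMap.comp (Algebra.linearMap A (B k)))
      fun a ha => Ideal.Quotient.eq_zero_iff_mem.2 (Ideal.mem_map_of_mem _ ha)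
  have h1 := congrArg (g.liftBaseChange (B k)) h0
  rw [map_zero, LinearMap.liftBaseChange_tmul, one_smul] at h1
  have h2 : J ≤ q.asIdeal := by
    refine Ideal.map_le_iff_le_comap.2 fun a ha => ?_
    have := congrArg PrimeSpectrum.asIdeal hq
    simp only [PrimeSpectrum.comap_asIdeal] at this
    rw [this]
    exact hle ha
  have h3 : (1 : B k) ∈ J := Ideal.Quotient.eq_zero_iff_mem.1 (by
    have h4 : Ideal.Quotient.mk J (algebraMap A (B k) 1) = 0 := h1
    rwa [map_one] at h4)
  exact q.isPrime.ne_top ((Ideal.eq_top_iff_one _).2 (h2 h3))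

include hcov in
/-- A linear map bijective after the base changes is bijective. -/
theorem bijective_of_forall_lTensor {P Q : Type u} [AddCommGroup P] [Module A P] [AddCommGroup Q]
    [Module A Q] (g : P →ₗ[A] Q) (h : ∀ k, Function.Bijective (g.lTensor (B k))) :
    Function.Bijective g := by
  refine ⟨?_, fun y => ?_⟩
  · rw [injective_iff_map_eq_zero]
    intro x hx
    refine eq_zero_of_forall_tmul_eq_zero hcov x fun k => (h k).1 ?_
    rw [LinearMap.lTensor_tmul, hx, TensorProduct.tmul_zero, map_zero]
  · have hy : (LinearMap.range g).mkQ y = 0 := eq_zero_of_forall_tmul_eq_zero hcov _ fun k => by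
      obtain ⟨z, hz⟩ := (h k).2 ((1 : B k) ⊗ₜ[A] y)
      rw [← LinearMap.lTensor_tmul, ← hz, ← LinearMap.comp_apply, ← LinearMap.lTensor_comp,
        LinearMap.range_mkQ_comp, LinearMap.lTensor_zero, LinearMap.zero_apply]
    exact (Submodule.Quotient.mk_eq_zero _).1 hy

end JointlyFF

end Groth.Agent.QcohDesc12
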