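import Groth.Prelude.Def_Desc
import Groth.Agent.Lib.ModLimH13.Sections

/-!
# Descent data of modules on sections
-/

universe u

set_option linter.style.haveILetI false
set_option backward.isDefEq.respectTransparency false
set_option backward.isDefEq.respectTransparency.types false

open AlgebraicGeometry CategoryTheory Limits CategoryTheory.Pseudofunctor

namespace Groth.Agent.QcohDesc12

open ModLimH13 _root_.Desc

theorem mapComp'_hom_app {X Y Z : Scheme.{u}} (g : Z ⟶ Y) (a : Y ⟶ X) (c : Z ⟶ X) (w : g ≫ a = c)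
    (M : X.Modules) (h : a.op.toLoc ≫ g.op.toLoc = c.op.toLoc) :
    (modPF.{u}.mapComp' a.op.toLoc g.op.toLoc c.op.toLoc h).hom.toNatTrans.app M =
      (cmp g a w).inv.app M := by
  subst w
  have e : (modPF.{u}.mapComp' a.op.toLoc g.op.toLoc (g ≫ a).op.toLoc h) =
      modPF.{u}.mapComp a.op.toLoc g.op.toLoc := Pseudofunctor.mapComp'_eq_mapComp _ _ _
  rw [e]
  unfold ModLimH13.cmp
  simp [Scheme.Modules.pullbackCongr]
  rfl

theorem mapComp'_inv_app {X Y Z : Scheme.{u}} (g : Z ⟶ Y) (a : Y ⟶ X) (c : Z ⟶ X) (w : g ≫ a = c)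
    (M : X.Modules) (h : a.op.toLoc ≫ g.op.toLoc = c.op.toLoc) :
    (modPF.{u}.mapComp' a.op.toLoc g.op.toLoc c.op.toLoc h).inv.toNatTrans.app M =
      (cmp g a w).hom.app M := by
  subst w
  have e : (modPF.{u}.mapComp' a.op.toLoc g.op.toLoc (g ≫ a).op.toLoc h) =
      modPF.{u}.mapComp a.op.toLoc g.op.toLoc := Pseudofunctor.mapComp'_eq_mapComp _ _ _
  rw [e]
  unfold ModLimH13.cmp
  simp [Scheme.Modules.pullbackCongr]
  rfl

variable {ι : Type u} {S : Scheme.{u}} {X : ι → Scheme.{u}} {f : ∀ i, X i ⟶ S}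
  (D : modPF.{u}.DescentData f)

/-- The module on a member of the family. -/
noncomputable def ob (i : ι) : (X i).Modules := D.obj i

/-- The gluing morphism. -/
noncomputable def hm {Y : Scheme.{u}} (q : Y ⟶ S) {i j : ι} (a : Y ⟶ X i) (b : Y ⟶ X j)
    (ha : a ≫ f i = q) (hb : b ≫ f j = q) :
    (Scheme.Modules.pullback a).obj (ob D i) ⟶ (Scheme.Modules.pullback b).obj (ob D j) :=
  D.hom q a b ha hb

lemma hm_self {Y : Scheme.{u}} (q : Y ⟶ S) {i : ι} (a : Y ⟶ X i) (ha : a ≫ f i = q) :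
    hm D q a a ha ha = 𝟙 _ := D.hom_self q a ha

lemma hm_comp {Y : Scheme.{u}} (q : Y ⟶ S) {i j k : ι} (a : Y ⟶ X i) (b : Y ⟶ X j) (c : Y ⟶ X k)
    (ha : a ≫ f i = q) (hb : b ≫ f j = q) (hc : c ≫ f k = q) :
    hm D q a b ha hb ≫ hm D q b c hb hc = hm D q a c ha hc := D.hom_comp q a b c ha hb hc

/-- The gluing morphisms commute with pullback. -/
lemma hm_pull {Y' Y : Scheme.{u}} (g : Y' ⟶ Y) (q : Y ⟶ S) (q' : Y' ⟶ S) (hq : g ≫ q = q') {i j : ι}
    (a : Y ⟶ X i) (b : Y ⟶ X j) (ha : a ≫ f i = q) (hb : b ≫ f j = q) (a' : Y' ⟶ X i) (b' : Y' ⟶ X j)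
    (wa : g ≫ a = a') (wb : g ≫ b = b') :
    hm D q' a' b' (by rw [← wa, Category.assoc, ha, hq]) (by rw [← wb, Category.assoc, hb, hq]) =
      (cmp g a wa).inv.app (ob D i) ≫ (Scheme.Modules.pullback g).map (hm D q a b ha hb) ≫
        (cmp g b wb).hom.app (ob D j) := by
  refine (D.pullHom_hom g q q' hq a b ha hb a' b' wa wb).symm.trans ?_
  show (modPF.{u}.mapComp' _ _ _ _).hom.toNatTrans.app _ ≫ _ ≫
    (modPF.{u}.mapComp' _ _ _ _).inv.toNatTrans.app _ = _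
  rw [mapComp'_hom_app g a a' wa, mapComp'_inv_app g b b' wb]
  rfl

/-- Pulling back an equation of sections. -/
theorem hm_res' {Y' Y : Scheme.{u}} (g : Y' ⟶ Y) (q : Y ⟶ S) (q' : Y' ⟶ S) (hq : g ≫ q = q') {i j : ι}
    (a : Y ⟶ X i) (b : Y ⟶ X j) (ha : a ≫ f i = q) (hb : b ≫ f j = q) (a' : Y' ⟶ X i) (b' : Y' ⟶ X j)
    (wa : g ≫ a = a') (wb : g ≫ b = b') {V : (X i).Opens} {W : Y.Opens} {W' : Y'.Opens}
    (e : W ≤ a ⁻¹ᵁ V) (d : W' ≤ g ⁻¹ᵁ W) (d' : W' ≤ a' ⁻¹ᵁ V)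
    (x : Γ(ob D i, V)) (z : Γ((Scheme.Modules.pullback b).obj (ob D j), W))
    (h : (hm D q a b ha hb).app W (res' a (ob D i) e x) = z) :
    (hm D q' a' b' (by rw [← wa, Category.assoc, ha, hq]) (by rw [← wb, Category.assoc, hb, hq])).app W'
      (res' a' (ob D i) d' x) = trans g b (ob D j) wb d z := by
  rw [hm_pull D g q q' hq a b ha hb a' b' wa wb, ← cmp_res' g a (ob D i) wa e d x]
  show ((cmp g b wb).hom.app (ob D j)).app W' (((Scheme.Modules.pullback g).map (hm D q a b ha hb)).app W'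
    (((cmp g a wa).inv.app (ob D i)).app W' (((cmp g a wa).hom.app (ob D i)).app W' _))) = _
  rw [show ∀ t, ((cmp g a wa).inv.app (ob D i)).app W' (((cmp g a wa).hom.app (ob D i)).app W' t) = t from
    fun t => congrArg (fun φ => φ.app W' t) ((cmp g a wa).hom_inv_id_app (ob D i)), map_res', h]
  rfl

end Groth.Agent.QcohDesc12
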