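import Groth.Agent.Lib.QcohDesc12.Effective

/-!
# Quasi-coherence descends along fpqc coverings
-/

universe u

set_option linter.style.haveILetI false
set_option linter.unusedSectionVars false
set_option backward.isDefEq.respectTransparency false
set_option backward.isDefEq.respectTransparency.types false

open AlgebraicGeometry CategoryTheory Limits

namespace Groth.Agent.QcohDesc12

open ModLimH13 _root_.Desc

variable {ι : Type u} {S : Scheme.{u}} {X : ι → Scheme.{u}} {f : ∀ i, X i ⟶ S}

/-- The map to the glued module of the canonical descent datum. -/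
theorem exists_toGlued (M : S.Modules) :
    ∃ c : M ⟶ glued (canDatum f M), ∀ (U : S.Opens) (s : Γ(M, U)) (i : ι),
      comp (c.app U s) i = can f M s i := by
  choose c hc using fun (U : S.Opens) (s : Γ(M, U)) =>
    exists_comp_eq (can f M s) (agree_can (f := f) M s)
  let app : ∀ U : S.Opens, Γ(M, U) →+ Γ(glued (canDatum f M), U) := fun U =>
    AddMonoidHom.mk' (c U) fun s s' => comp_injective _ _ fun i => by
      rw [comp_add, hc, hc, hc]
      exact res'_add (f i) M le_rfl s s'
  have hsmul : ∀ (U : S.Opens) (r : Γ(S, U)) (s : Γ(M, U)), c U (r • s) = r • c U s :=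
    fun U r s => comp_injective _ _ fun i => by
      rw [comp_smul, hc, hc]
      exact res'_smul (f i) M le_rfl r s
  refine ⟨⟨PresheafOfModules.homMk (M₁ := M.val) (M₂ := (glued (canDatum f M)).val)
    { app := fun U => AddCommGrpCat.ofHom (app U.unop)
      naturality := fun {U V} k => by
        ext s
        refine comp_injective (c V.unop (M1.mres M k.unop.le s)) _ fun i => ?_
        rw [hc]
        refine Eq.trans ?_ (comp_mres k.unop.le (c U.unop s) i).symm
        rw [hc]
        unfold can
        rw [res'_mres]
        exact (mres_res' (f i) M le_rfl ((f i).preimage_mono k.unop.le) s).symm }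
    (fun U r s => hsmul U.unop r s)⟩, fun U s i => hc U s i⟩

variable (hf : Presieve.ofArrows X f ∈ Scheme.fpqcPrecoverage S)
include hf

/-- Quasi-coherence descends along fpqc coverings. -/
theorem isQCoh_of_pullback (M : S.Modules)
    (h : ∀ i, Coh.IsQCoh ((Scheme.Modules.pullback (f i)).obj M)) : Coh.IsQCoh M := by
  haveI : ∀ i, Coh.IsQCoh (ob (canDatum f M) i) := h
  obtain ⟨c, hc⟩ := exists_toGlued (f := f) M
  have hq := isQCoh_glued (D := canDatum f M) hf
  have hν : ∀ i, (Scheme.Modules.pullback (f i)).map c ≫ gluedν (canDatum f M) i = 𝟙 _ := fun i => by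
    refine ((Scheme.Modules.pullbackPushforwardAdjunction (f i)).homEquiv _ _).injective ?_
    rw [Adjunction.homEquiv_naturality_left, gluedν, Equiv.apply_symm_apply, Adjunction.homEquiv_unit,
      CategoryTheory.Functor.map_id]
    refine Eq.trans ?_ (Category.comp_id _).symm
    refine Scheme.Modules.hom_ext _ _ fun U => ?_
    ext s
    refine (hc U s i).trans ?_
    unfold can
    rw [res', M1.mres_id]
    rfl
  haveI : Mono c := (M1.mono_iff_app c).2 fun U s s' hs => can_injective hf M s s' fun i => by
    rw [← hc, ← hc, hs]
  haveI : Epi c := by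
    refine Preadditive.epi_of_cokernel_zero ?_
    refine Scheme.Modules.hom_ext _ _ fun U => ?_
    ext g
    refine can_injective hf (cokernel c) _ _ fun i => ?_
    haveI : IsIso (gluedν (canDatum f M) i) := isIso_gluedν hf i
    haveI : IsIso ((Scheme.Modules.pullback (f i)).map c) :=
      haveI : IsIso ((Scheme.Modules.pullback (f i)).map c ≫ gluedν (canDatum f M) i) := by
        rw [hν i]; infer_instance
      IsIso.of_isIso_comp_right _ (gluedν (canDatum f M) i)
    have h0 : (Scheme.Modules.pullback (f i)).map (cokernel.π c) = 0 := by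
      rw [← cancel_epi ((Scheme.Modules.pullback (f i)).map c), ← Functor.map_comp, cokernel.condition,
        CategoryTheory.Limits.comp_zero]
      haveI := (Scheme.Modules.pullbackPushforwardAdjunction (f i)).left_adjoint_additive
      exact Functor.map_zero _ _ _
    show res' (f i) (cokernel c) (le_refl (f i ⁻¹ᵁ U)) ((cokernel.π c).app U g) =
      res' (f i) (cokernel c) (le_refl (f i ⁻¹ᵁ U)) (0 : Γ(cokernel c, U))
    rw [← map_res', h0]
    simp [res', show M2.pullSec (f i) (cokernel c) (0 : Γ(cokernel c, U)) = 0 from map_zero _]
  haveI : IsIso c := isIso_of_mono_of_epi c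
  exact M1.isQuasicoherent_of_iso (asIso c).symm

end Groth.Agent.QcohDesc12
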