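import Groth.Agent.Lib.QcohDesc12.Agree
import Groth.Agent.Lib.QcohDesc12.BC
import Groth.Agent.Lib.QcohDesc12.Alg
import Mathlib.AlgebraicGeometry.Sites.Fpqc

/-!
# Finitely many affine pieces over an affine open of the base
-/

universe u

set_option linter.style.haveILetI false
set_option linter.unusedSectionVars false
set_option backward.isDefEq.respectTransparency false
set_option backward.isDefEq.respectTransparency.types false

open AlgebraicGeometry CategoryTheory Limits TensorProduct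

namespace Groth.Agent.QcohDesc12

open ModLimH13 _root_.Desc

variable {ι : Type u} {S : Scheme.{u}} {X : ι → Scheme.{u}} (f : ∀ i, X i ⟶ S)

/-- Finitely many affine opens of the members, jointly surjecting onto `U`. -/
structure Pieces (U : S.Opens) where
  /-- The index type. -/
  K : Type u
  fin : Finite K
  /-- The members. -/
  idx : K → ι
  /-- The affine opens. -/
  W : ∀ k, (X (idx k)).Opens
  aff : ∀ k, IsAffineOpen (W k)
  le : ∀ k, W k ≤ f (idx k) ⁻¹ᵁ U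
  cov : ∀ x ∈ U, ∃ k, ∃ y ∈ W k, f (idx k) y = x

variable {f}

theorem exists_pieces (hf : Presieve.ofArrows X f ∈ Scheme.fpqcPrecoverage S) {U : S.Opens}
    (hU : IsAffineOpen U) : Nonempty (Pieces f U) := by
  let E : PreZeroHypercover.{u} S := ⟨ι, X, f⟩
  haveI : QuasiCompactCover E := Scheme.presieve₀_mem_qcPrecoverage_iff.mp hf.1
  obtain ⟨n, a, V, hV, heq⟩ :=
    QuasiCompactCover.exists_isAffineOpen_of_isCompact E (U := U) hU.isCompact
  refine ⟨⟨ULift (Fin n), inferInstance, fun k => a k.down, fun k => V k.down, fun k => hV k.down,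
    fun k y hy => ?_, fun x hx => ?_⟩⟩
  · have : f (a k.down) y ∈ (U : Set S) := heq ▸ Set.mem_iUnion.2 ⟨k.down, y, hy, rfl⟩
    exact this
  · rw [← SetLike.mem_coe, ← heq, Set.mem_iUnion] at hx
    obtain ⟨i, y, hy, hxy⟩ := hx
    exact ⟨⟨i⟩, y, hy, hxy⟩

theorem flat_of_mem (hf : Presieve.ofArrows X f ∈ Scheme.fpqcPrecoverage S) (i : ι) : Flat (f i) :=
  ((Scheme.ofArrows_mem_precoverage_iff @Flat).mp hf.2).2 i

namespace Pieces

variable {U : S.Opens} (P : Pieces f U) (D : modPF.{u}.DescentData f)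

/-- Add an affine open. -/
def add {i : ι} {V : (X i).Opens} (hV : IsAffineOpen V) (e : V ≤ f i ⁻¹ᵁ U) : Pieces f U where
  K := Option P.K
  fin := have := P.fin; inferInstance
  idx o := o.elim i P.idx
  W := fun
    | none => V
    | some k => P.W k
  aff := fun
    | none => hV
    | some k => P.aff k
  le := fun
    | none => e
    | some k => P.le k
  cov x hx := let ⟨k, h⟩ := P.cov x hx; ⟨some k, h⟩

instance : Finite P.K := P.fin

noncomputable instance algB (k : P.K) : Algebra Γ(S, U) Γ(X (P.idx k), P.W k) :=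
  ((f (P.idx k)).appLE U (P.W k) (P.le k)).hom.toAlgebra

instance flatB [∀ i, Flat (f i)] [hU : Fact (IsAffineOpen U)] (k : P.K) :
    Module.Flat Γ(S, U) Γ(X (P.idx k), P.W k) :=
  (f (P.idx k)).flat_appLE hU.out (P.aff k) (P.le k)

noncomputable instance modN (k : P.K) : Module Γ(S, U) Γ(ob D (P.idx k), P.W k) :=
  Module.compHom _ ((f (P.idx k)).appLE U (P.W k) (P.le k)).hom

instance towerN (k : P.K) :
    IsScalarTower Γ(S, U) Γ(X (P.idx k), P.W k) Γ(ob D (P.idx k), P.W k) :=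
  IsScalarTower.of_algebraMap_smul fun _ _ => rfl

section Phi

variable {k l : P.K} {Z : Scheme.{u}} (a : Z ⟶ X (P.idx k)) (b : Z ⟶ X (P.idx l))
  (hab : b ≫ f (P.idx l) = a ≫ f (P.idx k)) {Z₀ : Z.Opens} (e : Z₀ ≤ a ⁻¹ᵁ P.W k) (e' : Z₀ ≤ b ⁻¹ᵁ P.W l)

/-- `c ⊗ y ↦ a^*c • b^*y`. -/
noncomputable def phi : Γ(X (P.idx k), P.W k) ⊗[Γ(S, U)] Γ(ob D (P.idx l), P.W l) →+
    Γ((Scheme.Modules.pullback b).obj (ob D (P.idx l)), Z₀) :=
  bcSec (P.le k) (P.le l) e e' hab.symm (ob D (P.idx l)) (fun _ => rfl) (fun _ _ => rfl)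

lemma phi_tmul (c : Γ(X (P.idx k), P.W k)) (y : Γ(ob D (P.idx l), P.W l)) :
    P.phi D a b hab e e' (c ⊗ₜ y) = a.appLE (P.W k) Z₀ e c • res' b (ob D (P.idx l)) e' y :=
  bcSec_tmul _ _ _ _ _ _ _ _ _ _

lemma phi_one_tmul (y : Γ(ob D (P.idx l), P.W l)) :
    P.phi D a b hab e e' (1 ⊗ₜ y) = res' b (ob D (P.idx l)) e' y := by
  rw [phi_tmul, map_one, one_smul]

lemma phi_smul (c : Γ(X (P.idx k), P.W k)) (z) :
    P.phi D a b hab e e' (c • z) = a.appLE (P.W k) Z₀ e c • P.phi D a b hab e e' z :=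
  bcSec_smul _ _ _ _ _ _ _ _ _ _

lemma trans_phi {Z' : Scheme.{u}} (g : Z' ⟶ Z) (a' : Z' ⟶ X (P.idx k)) (b' : Z' ⟶ X (P.idx l))
    (wa : g ≫ a = a') (wb : g ≫ b = b') {Z₀' : Z'.Opens} (d : Z₀' ≤ g ⁻¹ᵁ Z₀)
    (e₁ : Z₀' ≤ a' ⁻¹ᵁ P.W k) (e₁' : Z₀' ≤ b' ⁻¹ᵁ P.W l)
    (hab' : b' ≫ f (P.idx l) = a' ≫ f (P.idx k)) (z) :
    trans g b (ob D (P.idx l)) wb d (P.phi D a b hab e e' z) = P.phi D a' b' hab' e₁ e₁' z := by
  induction z using TensorProduct.induction_on with
  | zero => rw [map_zero, map_zero, trans_zero]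
  | tmul c y =>
    rw [phi_tmul, phi_tmul, trans_smul, trans_res', ← CommRingCat.comp_apply, Scheme.Hom.appLE_comp_appLE]
    simp only [wa]
  | add x y hx hy => rw [map_add, map_add, trans_add, hx, hy]

end Phi

variable [∀ i, Coh.IsQCoh (ob D i)] [hU : Fact (IsAffineOpen U)]

theorem phi_bijective (k l : P.K) :
    Function.Bijective (P.phi D (k := k) (l := l) (pullback.fst (f (P.idx k)) (f (P.idx l)))
      (pullback.snd (f (P.idx k)) (f (P.idx l))) pullback.condition.symm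
      (Z₀ := pullback.fst (f (P.idx k)) (f (P.idx l)) ⁻¹ᵁ P.W k ⊓
        pullback.snd (f (P.idx k)) (f (P.idx l)) ⁻¹ᵁ P.W l) inf_le_left inf_le_right) :=
  bcSec_bijective _ _ _ _ _ _ _ _ (.of_hasPullback _ _) hU.out (P.aff k) (P.aff l) rfl

/-- The gluing maps on sections. -/
noncomputable def rhoFun (k l : P.K) (x : Γ(ob D (P.idx k), P.W k)) :
    Γ(X (P.idx k), P.W k) ⊗[Γ(S, U)] Γ(ob D (P.idx l), P.W l) :=
  (Equiv.ofBijective _ (P.phi_bijective D k l)).symm
    ((hm D (pullback.fst (f (P.idx k)) (f (P.idx l)) ≫ f (P.idx k)) (pullback.fst _ _) (pullback.snd _ _) rfl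
      pullback.condition.symm).app _ (res' _ (ob D (P.idx k)) inf_le_left x))

lemma phi_rhoFun (k l : P.K) (x : Γ(ob D (P.idx k), P.W k)) :
    P.phi D (pullback.fst (f (P.idx k)) (f (P.idx l))) (pullback.snd (f (P.idx k)) (f (P.idx l)))
      pullback.condition.symm (Z₀ := pullback.fst (f (P.idx k)) (f (P.idx l)) ⁻¹ᵁ P.W k ⊓
        pullback.snd (f (P.idx k)) (f (P.idx l)) ⁻¹ᵁ P.W l) inf_le_left inf_le_right (P.rhoFun D k l x) =
    (hm D (pullback.fst (f (P.idx k)) (f (P.idx l)) ≫ f (P.idx k)) (pullback.fst _ _) (pullback.snd _ _) rfl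
      pullback.condition.symm).app _ (res' _ (ob D (P.idx k)) inf_le_left x) :=
  (Equiv.ofBijective _ (P.phi_bijective D k l)).apply_symm_apply _

/-- The gluing maps on sections, as linear maps. -/
noncomputable def rho (k l : P.K) : Γ(ob D (P.idx k), P.W k) →ₗ[Γ(X (P.idx k), P.W k)]
    Γ(X (P.idx k), P.W k) ⊗[Γ(S, U)] Γ(ob D (P.idx l), P.W l) where
  toFun := P.rhoFun D k l
  map_add' x y := (P.phi_bijective D k l).1 (by
    rw [map_add, phi_rhoFun, phi_rhoFun, phi_rhoFun, res'_add, map_add])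
  map_smul' c x := (P.phi_bijective D k l).1 (by
    rw [RingHom.id_apply, phi_smul, phi_rhoFun, phi_rhoFun, res'_smul, Scheme.Modules.Hom.app_smul])

/-- The gluing maps compute the gluing morphisms. -/
theorem hm_eq_phi_rho {k l : P.K} {Z : Scheme.{u}} (a : Z ⟶ X (P.idx k)) (b : Z ⟶ X (P.idx l))
    (q : Z ⟶ S) (ha : a ≫ f (P.idx k) = q) (hb : b ≫ f (P.idx l) = q) {Z₀ : Z.Opens}
    (e : Z₀ ≤ a ⁻¹ᵁ P.W k) (e' : Z₀ ≤ b ⁻¹ᵁ P.W l) (x : Γ(ob D (P.idx k), P.W k)) :
    (hm D q a b ha hb).app Z₀ (res' a (ob D (P.idx k)) e x) =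
      P.phi D a b (hb.trans ha.symm) e e' (P.rho D k l x) := by
  let g : Z ⟶ pullback (f (P.idx k)) (f (P.idx l)) := pullback.lift a b (ha.trans hb.symm)
  have wa : g ≫ pullback.fst _ _ = a := pullback.lift_fst _ _ _
  have wb : g ≫ pullback.snd _ _ = b := pullback.lift_snd _ _ _
  have d : Z₀ ≤ g ⁻¹ᵁ (pullback.fst (f (P.idx k)) (f (P.idx l)) ⁻¹ᵁ P.W k ⊓
      pullback.snd (f (P.idx k)) (f (P.idx l)) ⁻¹ᵁ P.W l) := by
    intro z hz
    refine ⟨?_, ?_⟩
    · show (pullback.fst (f (P.idx k)) (f (P.idx l))) (g z) ∈ P.W k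
      rw [← Scheme.Hom.comp_apply, wa]
      exact e hz
    · show (pullback.snd (f (P.idx k)) (f (P.idx l))) (g z) ∈ P.W l
      rw [← Scheme.Hom.comp_apply, wb]
      exact e' hz
  exact (hm_res' D g _ q (by rw [← Category.assoc, wa, ha]) _ _ rfl pullback.condition.symm a b wa wb
    inf_le_left d e x _ (P.phi_rhoFun D k l x).symm).trans
      (P.trans_phi D _ _ pullback.condition.symm inf_le_left inf_le_right g a b wa wb d e e' _ _)

theorem rho_self (k : P.K) (x : Γ(ob D (P.idx k), P.W k)) :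
    mulMap (A := Γ(S, U)) (B := fun k => Γ(X (P.idx k), P.W k))
      (N := fun k => Γ(ob D (P.idx k), P.W k)) k (P.rho D k k x) = x := by
  refine res'_injective (𝟙 (X (P.idx k))) (ob D (P.idx k)) (le_refl (P.W k))
    (fun z hz => ⟨z, hz, rfl⟩) ?_
  have h := P.hm_eq_phi_rho D (𝟙 _) (𝟙 _) (f (P.idx k)) (Category.id_comp _) (Category.id_comp _)
    (le_refl (P.W k)) (le_refl (P.W k)) x
  rw [hm_self] at h
  refine Eq.trans ?_ h.symm
  generalize P.rho D k k x = z
  induction z using TensorProduct.induction_on with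
  | zero =>
    rw [map_zero, map_zero]
    simp [res', show M2.pullSec (𝟙 (X (P.idx k))) (ob D (P.idx k))
      (0 : Γ(ob D (P.idx k), P.W k)) = 0 from map_zero _]
  | tmul c y => rw [mulMap_tmul, phi_tmul, res'_smul]
  | add u v hu hv => rw [map_add, map_add, res'_add, hu, hv]

theorem rho_cocycle : IsCocycle (fun k l => P.rho D k l) := by
  intro k l m x
  let q1 := pullback.fst (f (P.idx l)) (f (P.idx m))
  let q2 := pullback.snd (f (P.idx l)) (f (P.idx m))
  let W' : (pullback (f (P.idx l)) (f (P.idx m))).Opens := q1 ⁻¹ᵁ P.W l ⊓ q2 ⁻¹ᵁ P.W m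
  have hW'U : W' ≤ (q1 ≫ f (P.idx l)) ⁻¹ᵁ U := inf_le_left.trans (q1.preimage_mono (P.le l))
  have hW' : IsAffineOpen W' :=
    FlatH4.isAffineOpen_of_isPullback (IsPullback.of_hasPullback (f (P.idx l)) (f (P.idx m)))
      (P.le m) (P.le l) rfl hU.out (P.aff m) (P.aff l)
  let a := pullback.fst (f (P.idx k)) (q1 ≫ f (P.idx l))
  let g := pullback.snd (f (P.idx k)) (q1 ≫ f (P.idx l))
  let Z₀ := a ⁻¹ᵁ P.W k ⊓ g ⁻¹ᵁ W'
  let F := (Scheme.Modules.pullback q2).obj (ob D (P.idx m))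
  haveI : Coh.IsQCoh F := M1.isQCoh_pullback q2 inferInstance
  letI : Module Γ(S, U) Γ(F, W') := Module.compHom _ ((q1 ≫ f (P.idx l)).appLE U W' hW'U).hom
  have hwq : a ≫ f (P.idx k) = g ≫ q1 ≫ f (P.idx l) := pullback.condition
  have hm0 : q2 ≫ f (P.idx m) = q1 ≫ f (P.idx l) := pullback.condition.symm
  let φ : Γ(X (P.idx l), P.W l) ⊗[Γ(S, U)] Γ(ob D (P.idx m), P.W m) →ₗ[Γ(S, U)] Γ(F, W') :=
    { toFun := P.phi D q1 q2 hm0 (Z₀ := W') inf_le_left inf_le_right
      map_add' := map_add _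
      map_smul' := fun r z => by
        rw [algebra_compatible_smul Γ(X (P.idx l), P.W l) r z, phi_smul]
        show q1.appLE (P.W l) W' inf_le_left ((f (P.idx l)).appLE U (P.W l) (P.le l) r) •
            P.phi D q1 q2 hm0 (Z₀ := W') inf_le_left inf_le_right z =
          (q1 ≫ f (P.idx l)).appLE U W' hW'U r • P.phi D q1 q2 hm0 (Z₀ := W') inf_le_left inf_le_right z
        rw [← CommRingCat.comp_apply, Scheme.Hom.appLE_comp_appLE] }
  have hφ : Function.Bijective φ := P.phi_bijective D l m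
  let Ψ : Γ(X (P.idx k), P.W k) ⊗[Γ(S, U)] Γ(F, W') →+ Γ((Scheme.Modules.pullback g).obj F, Z₀) :=
    bcSec (P.le k) hW'U inf_le_left inf_le_right hwq F (fun _ => rfl) (fun _ _ => rfl)
  have hΨ : Function.Bijective Ψ :=
    bcSec_bijective _ _ _ _ _ _ _ _ (IsPullback.of_hasPullback _ _) hU.out (P.aff k) hW' rfl
  let b : _ ⟶ X (P.idx l) := g ≫ q1
  let c : _ ⟶ X (P.idx m) := g ≫ q2
  let C := ((cmp g q2 (h := c) rfl).hom.app (ob D (P.idx m))).app Z₀
  have hC : Function.Injective C := fun u v huv => by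
    have h1 : ∀ t, ((cmp g q2 (h := c) rfl).inv.app (ob D (P.idx m))).app Z₀ (C t) = t := fun t =>
      congrArg (fun φ => φ.app Z₀ t) ((cmp g q2 (h := c) rfl).hom_inv_id_app (ob D (P.idx m)))
    rw [← h1 u, ← h1 v, huv]
  refine (LinearEquiv.lTensor Γ(X (P.idx k), P.W k) (LinearEquiv.ofBijective φ hφ)).injective
    (hΨ.1 (hC ?_))
  have hbU : b ≫ f (P.idx l) = a ≫ f (P.idx k) := (Category.assoc _ _ _).trans hwq.symm
  have hcU : c ≫ f (P.idx m) = a ≫ f (P.idx k) :=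
    (Category.assoc _ _ _).trans ((congrArg (g ≫ ·) hm0).trans hwq.symm)
  have eb : Z₀ ≤ b ⁻¹ᵁ P.W l := inf_le_right.trans (g.preimage_mono inf_le_left)
  have ec : Z₀ ≤ c ⁻¹ᵁ P.W m := inf_le_right.trans (g.preimage_mono inf_le_right)
  have hT : ∀ (c₀ : Γ(X (P.idx k), P.W k)) (z : Γ(X (P.idx l), P.W l) ⊗[Γ(S, U)] Γ(ob D (P.idx m), P.W m)),
      C (Ψ (c₀ ⊗ₜ φ z)) = a.appLE (P.W k) Z₀ inf_le_left c₀ •
        P.phi D b c (hcU.trans hbU.symm) eb ec z := fun c₀ z => by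
    rw [bcSec_tmul, Scheme.Modules.Hom.app_smul]
    congr 1
    exact P.trans_phi D q1 q2 hm0 inf_le_left inf_le_right g b c rfl rfl inf_le_right eb ec _ z
  have h1 : ∀ z : Γ(X (P.idx k), P.W k) ⊗[Γ(S, U)] Γ(ob D (P.idx l), P.W l),
      C (Ψ (φ.lTensor _ (((P.rho D l m).restrictScalars Γ(S, U)).lTensor _ z))) =
        (hm D (a ≫ f (P.idx k)) b c hbU hcU).app Z₀
          (P.phi D a b hbU inf_le_left eb z) := fun z => by
    induction z using TensorProduct.induction_on with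
    | zero => simp only [map_zero]
    | tmul c₀ y =>
      rw [LinearMap.lTensor_tmul, LinearMap.lTensor_tmul, hT, phi_tmul, Scheme.Modules.Hom.app_smul,
        P.hm_eq_phi_rho D b c (a ≫ f (P.idx k)) hbU hcU eb ec y]
      rfl
    | add u v hu hv => simp only [map_add, hu, hv]
  have h2 : ∀ z : Γ(X (P.idx k), P.W k) ⊗[Γ(S, U)] Γ(ob D (P.idx m), P.W m),
      C (Ψ (φ.lTensor _ ((TensorProduct.mk Γ(S, U) Γ(X (P.idx l), P.W l) _ 1).lTensor _ z))) =
        P.phi D a c hcU inf_le_left ec z := fun z => by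
    induction z using TensorProduct.induction_on with
    | zero => simp only [map_zero]
    | tmul c₀ y =>
      rw [LinearMap.lTensor_tmul, LinearMap.lTensor_tmul, TensorProduct.mk_apply, hT, phi_one_tmul, phi_tmul]
    | add u v hu hv => simp only [map_add, hu, hv]
  refine (h1 _).trans (Eq.trans ?_ (h2 _).symm)
  rw [← P.hm_eq_phi_rho D a b (a ≫ f (P.idx k)) rfl hbU inf_le_left eb x,
    ← P.hm_eq_phi_rho D a c (a ≫ f (P.idx k)) rfl hcU inf_le_left ec x,
    ← hm_comp D (a ≫ f (P.idx k)) a b c rfl hbU hcU]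
  rfl

/-- Compatible families on the pieces. -/
noncomputable def M₀ : Submodule Γ(S, U) (∀ k, Γ(ob D (P.idx k), P.W k)) :=
  LinearMap.ker (dmap (fun k l => P.rho D k l))

theorem mem_M₀ (n : ∀ k, Γ(ob D (P.idx k), P.W k)) :
    n ∈ P.M₀ D ↔ ∀ k l, Agree D (n k) (n l) := by
  refine Iff.trans (mem_ker_dmap (fun k l => P.rho D k l)) ⟨fun h k l => ?_, fun h k l => ?_⟩
  · refine Agree.of_pullback ?_
    rw [P.hm_eq_phi_rho D _ _ _ rfl pullback.condition.symm inf_le_left inf_le_right, h, phi_one_tmul]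
  · refine (P.phi_bijective D k l).1 ?_
    rw [phi_one_tmul]
    exact (P.hm_eq_phi_rho D _ _ _ rfl pullback.condition.symm inf_le_left inf_le_right _).symm.trans
      (h k l _ _ pullback.condition.symm _ inf_le_left inf_le_right)

variable [∀ i, Flat (f i)]

/-- Base change of compatible families. -/
theorem bcMap_bijective' (k : P.K) :
    Function.Bijective (bcMap (fun k l => P.rho D k l) k) :=
  bcMap_bijective _ (fun k x => P.rho_self D k x) (P.rho_cocycle D) k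

end Pieces

end Groth.Agent.QcohDesc12
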