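import Groth.Prelude.Def_MeroSh
import Groth.Agent.Lib.QcohDesc12.Morph

/-!
# The module glued from a descent datum
-/

universe u

set_option linter.style.haveILetI false
set_option linter.unusedSectionVars false
set_option backward.isDefEq.respectTransparency false
set_option backward.isDefEq.respectTransparency.types false

open AlgebraicGeometry CategoryTheory Limits TopologicalSpace

namespace Groth.Agent.QcohDesc12

open ModLimH13 _root_.Desc

variable {ι : Type u} {S : Scheme.{u}} {X : ι → Scheme.{u}} {f : ∀ i, X i ⟶ S}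
  (D : modPF.{u}.DescentData f)

/-- The direct images. -/
noncomputable abbrev dir (i : ι) : S.Modules := (Scheme.Modules.pushforward (f i)).obj (ob D i)

/-- The values of the glued module. -/
abbrev Val (x : S) : Type u := ∀ i, ((dir D i).presheaf.stalk x : Type u)

/-- Families coming from compatible sections. -/
def IsCompat (U : S.Opens) (g : ∀ x : U, Val D x.1) : Prop :=
  ∃ t : ∀ i, Γ(ob D i, f i ⁻¹ᵁ U), (∀ i j, Agree D (t i) (t j)) ∧
    ∀ (x : U) (i : ι), g x i = (dir D i).presheaf.germ U x.1 x.2 (t i)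

/-- The local predicate of the glued module. -/
noncomputable def pred : TopCat.LocalPredicate (fun x : S => Val D x) where
  pred {U} g := IsCompat D U g
  res {V U} k g := by
    rintro ⟨t, ht, hg⟩
    refine ⟨fun i => M1.mres _ ((f i).preimage_mono k.le) (t i), fun i j => (ht i j).mres _ _,
      fun x i => ?_⟩
    exact (hg ⟨x.1, k.le x.2⟩ i).trans
      (TopCat.Presheaf.germ_res_apply (dir D i).presheaf k x.1 x.2 (t i)).symm
  locality {U} g h := by
    choose V hxV k t ht hg using h
    have hex : ∀ i, ∃! s : Γ(dir D i, U), ∀ x : U, (dir D i).presheaf.map (k x).op s = t x i := fun i => by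
      refine TopCat.Sheaf.existsUnique_gluing' ⟨(dir D i).presheaf, (dir D i).isSheaf⟩ V U k
        (fun x hx => Opens.mem_iSup.2 ⟨⟨x, hx⟩, hxV ⟨x, hx⟩⟩) (fun x => t x i) fun a b => ?_
      refine M1.section_ext (M := dir D i) _ _ fun y hy => ?_
      refine (TopCat.Presheaf.germ_res_apply (dir D i).presheaf (Opens.infLELeft (V a) (V b)) y hy (t a i)).trans
        (Eq.trans ?_ (TopCat.Presheaf.germ_res_apply (dir D i).presheaf (Opens.infLERight (V a) (V b))
          y hy (t b i)).symm)
      exact (hg a ⟨y, hy.1⟩ i).symm.trans (hg b ⟨y, hy.2⟩ i)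
    choose s hs _ using hex
    refine ⟨s, fun i j => Agree.of_local fun p hp p' hp' hpp => ?_, fun x i => ?_⟩
    · let x : U := ⟨f i p, hp⟩
      refine ⟨f i ⁻¹ᵁ V x, f j ⁻¹ᵁ V x, (f i).preimage_mono (k x).le, (f j).preimage_mono (k x).le,
        hxV x, ?_, ?_⟩
      · show f j p' ∈ V x
        rw [← hpp]; exact hxV x
      · have h1 : ∀ l, M1.mres (ob D l) ((f l).preimage_mono (k x).le) (s l) = t x l := fun l => hs l x
        rw [h1, h1]
        exact ht x i j
    · refine (hg x ⟨x.1, hxV x⟩ i).trans ?_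
      rw [← hs i x]
      exact TopCat.Presheaf.germ_res_apply (dir D i).presheaf (k x) x.1 (hxV x) (s i)

instance : Mero.IsModPred (pred D) where
  zero U := ⟨fun i => 0, fun i j => Agree.zero, fun x i => (map_zero _).symm⟩
  add U g g' := by
    rintro ⟨t, ht, hg⟩ ⟨t', ht', hg'⟩
    refine ⟨t + t', fun i j => (ht i j).add (ht' i j), fun x i => ?_⟩
    rw [Pi.add_apply, Pi.add_apply, hg, hg']
    exact (map_add _ _ _).symm
  smul U r g := by
    rintro ⟨t, ht, hg⟩
    refine ⟨fun i => (f i).appLE U (f i ⁻¹ᵁ U) le_rfl r • t i, fun i j => (ht i j).smul le_rfl le_rfl r,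
      fun x i => ?_⟩
    show S.presheaf.germ U x.1 x.2 r • g x i = _
    rw [hg]
    refine (M1.germ_smul (dir D i) x.2 r (t i)).symm.trans (congrArg _ ?_)
    show (f i).app U r • t i = _
    rw [Scheme.Hom.app_eq_appLE]

/-- The glued module. -/
noncomputable def glued : S.Modules := Mero.modOf (pred D)

variable {D}

/-- The components of a section of the glued module. -/
noncomputable def comp {U : S.Opens} (g : Γ(glued D, U)) (i : ι) : Γ(ob D i, f i ⁻¹ᵁ U) :=
  g.2.choose i

theorem agree_comp {U : S.Opens} (g : Γ(glued D, U)) (i j : ι) : Agree D (comp g i) (comp g j) :=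
  g.2.choose_spec.1 i j

theorem germ_comp {U : S.Opens} (g : Γ(glued D, U)) (i : ι) (x : U) :
    (dir D i).presheaf.germ U x.1 x.2 (comp g i) = g.1 x i :=
  (g.2.choose_spec.2 x i).symm

theorem comp_eq {U : S.Opens} (g : Γ(glued D, U)) {i : ι} (t : Γ(ob D i, f i ⁻¹ᵁ U))
    (h : ∀ x : U, (dir D i).presheaf.germ U x.1 x.2 t = g.1 x i) : comp g i = t :=
  M1.section_ext (M := dir D i) (comp g i) t fun x hx => (germ_comp g i ⟨x, hx⟩).trans (h ⟨x, hx⟩).symm

theorem comp_injective {U : S.Opens} (g g' : Γ(glued D, U)) (h : ∀ i, comp g i = comp g' i) : g = g' :=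
  Subtype.ext (funext fun x => funext fun i => by rw [← germ_comp g i x, h i]; exact germ_comp g' i x)

theorem exists_comp_eq {U : S.Opens} (t : ∀ i, Γ(ob D i, f i ⁻¹ᵁ U)) (ht : ∀ i j, Agree D (t i) (t j)) :
    ∃ g : Γ(glued D, U), ∀ i, comp g i = t i :=
  ⟨⟨fun x i => (dir D i).presheaf.germ U x.1 x.2 (t i), t, ht, fun _ _ => rfl⟩,
    fun i => comp_eq _ _ fun _ => rfl⟩

theorem comp_add {U : S.Opens} (g g' : Γ(glued D, U)) (i : ι) :
    comp (g + g') i = comp g i + comp g' i :=
  comp_eq _ _ fun x => (map_add ((dir D i).presheaf.germ U x.1 x.2).hom _ _).trans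
    (congrArg₂ (· + ·) (germ_comp g i x) (germ_comp g' i x))

theorem comp_zero {U : S.Opens} (i : ι) : comp (0 : Γ(glued D, U)) i = 0 :=
  comp_eq _ _ fun x => map_zero ((dir D i).presheaf.germ U x.1 x.2).hom

theorem comp_smul {U : S.Opens} (r : Γ(S, U)) (g : Γ(glued D, U)) (i : ι) :
    comp (r • g) i = (f i).appLE U (f i ⁻¹ᵁ U) le_rfl r • comp g i :=
  comp_eq _ _ fun x => by
    refine Eq.trans ?_ ((M1.germ_smul (dir D i) x.2 r (comp g i)).trans
      (congrArg (_ • ·) (germ_comp g i x)))
    refine congrArg _ ?_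
    show _ = (f i).app U r • comp g i
    rw [Scheme.Hom.app_eq_appLE]

theorem comp_mres {U V : S.Opens} (h : V ≤ U) (g : Γ(glued D, U)) (i : ι) :
    comp (M1.mres (glued D) h g) i = M1.mres _ ((f i).preimage_mono h) (comp g i) :=
  comp_eq _ _ fun x =>
    (TopCat.Presheaf.germ_res_apply (dir D i).presheaf (homOfLE h) x.1 x.2 (comp g i)).trans
      (germ_comp g i ⟨x.1, h x.2⟩)

variable (D)

/-- The projection to a direct image. -/
noncomputable def gluedπ (i : ι) : glued D ⟶ dir D i :=
  ⟨PresheafOfModules.homMk (M₁ := (glued D).val) (M₂ := (dir D i).val)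
    { app := fun U => AddCommGrpCat.ofHom
        (AddMonoidHom.mk' (fun g : Γ(glued D, U.unop) => comp g i) fun g g' => comp_add g g' i)
      naturality := fun {U V} k => by
        ext g
        exact comp_mres k.unop.le g i }
    (fun U r g => by
      refine (comp_smul (U := U.unop) r g i).trans ?_
      show _ = (f i).app U.unop r • comp g i
      rw [Scheme.Hom.app_eq_appLE])⟩

/-- The comparison with the descent datum. -/
noncomputable def gluedν (i : ι) : (Scheme.Modules.pullback (f i)).obj (glued D) ⟶ ob D i :=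
  ((Scheme.Modules.pullbackPushforwardAdjunction (f i)).homEquiv _ _).symm (gluedπ D i)

theorem gluedν_res' (i : ι) {U : S.Opens} {V : (X i).Opens} (e : V ≤ f i ⁻¹ᵁ U) (g : Γ(glued D, U)) :
    (gluedν D i).app V (res' (f i) (glued D) e g) = M1.mres _ e (comp g i) := by
  rw [res', M1.app_mres]
  refine congrArg _ ?_
  have h := congrArg (fun φ => φ.app U g)
    (((Scheme.Modules.pullbackPushforwardAdjunction (f i)).homEquiv _ _).apply_symm_apply (gluedπ D i))
  simp only [Adjunction.homEquiv_unit] at h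
  exact h

end Groth.Agent.QcohDesc12
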